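import Cfsg.Agent.BZ.Cov
import Cfsg.Agent.KM.Tr

/-!
# BZ: from the finite reductive groups to the rows (helper56)

`BX X l M H` : the blocks of `H` with the property `X` have abelian defect groups; `Lf X` : `X` lifts along quotients with kernel of order
prime to `l` (`lfP`, `lfT`); `bx_quot`, `row_dom`, `row_sc`, `row_mult`, `row_small`.
-/

set_option autoImplicit false
set_option linter.unusedSectionVars false

namespace Cfsg.Agent.BZ.Cl

open Cfsg Cfsg.Agent.Blocks Cfsg.Agent.KM Cfsg.Agent.KM.BK Cfsg.Agent.H649 Cfsg.Agent.TID.Red Cfsg.Agent.DL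

/-- the blocks with the property `X` have abelian defect groups -/
def BX (X : Bad) (l : ℕ) (M : Ideal AlgInt) (H : Type) [Group H] : Prop :=
  ∀ (B : Set (IrrCharacter H)) (D : Subgroup H), IsPBlock M B → IsDefectGroup l M B D → X l H B → Ab D

/-- `B` is the inflation of `b` -/
def Inf {H K : Type} [Group H] [Group K] (φ : H →* K) (B : Set (IrrCharacter H)) (b : Set (IrrCharacter K)) : Prop :=
  (∀ χ ∈ B, ∃ ψ ∈ b, (χ : H → ℂ) = (ψ : K → ℂ) ∘ φ) ∧ ∀ ψ ∈ b, ∃ χ ∈ B, (χ : H → ℂ) = (ψ : K → ℂ) ∘ φ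

/-- the property passes to inflations -/
def Lf (X : Bad) : Prop :=
  ∀ (l : ℕ) (H K : Type) [Group H] [Group K] (φ : H →* K) (B : Set (IrrCharacter H)) (b : Set (IrrCharacter K)), Inf φ B b → X l K b → X l H B

theorem deg_comp {H K : Type} [Group H] [Group K] (φ : H →* K) (ψ : K → ℂ) : charDegree (ψ ∘ φ) = charDegree ψ := by
  unfold charDegree
  rw [Function.comp_apply, map_one]

theorem lfP : Lf XP := fun l H K _ _ φ B b h hb => eq_iff_hz.1 fun χ hχ χ' hχ' => by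
  obtain ⟨ψ, h1, h2⟩ := h.1 χ hχ
  obtain ⟨ψ', h3, h4⟩ := h.1 χ' hχ'
  have := eq_iff_hz.2 hb ψ h1 ψ' h3
  unfold nu at this ⊢
  rwa [h2, h4, deg_comp, deg_comp]

theorem Inf.ht {H K : Type} [Group H] [Group K] {φ : H →* K} {B : Set (IrrCharacter H)} {b : Set (IrrCharacter K)} (h : Inf φ B b)
    (l : ℕ) (ψ : K → ℂ) : blockHeight l B (ψ ∘ φ) = blockHeight l b ψ := by
  unfold blockHeight
  rw [deg_comp]
  congr 2
  refine Set.ext fun n => ⟨?_, ?_⟩
  · rintro ⟨χ, hχ, rfl⟩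
    obtain ⟨ψ', h1, h2⟩ := h.1 χ hχ
    exact ⟨ψ', h1, by simp only [h2, deg_comp]⟩
  · rintro ⟨ψ', h1, rfl⟩
    obtain ⟨χ, hχ, h2⟩ := h.2 ψ' h1
    exact ⟨χ, hχ, by simp only [h2, deg_comp]⟩

theorem lfT : Lf XT := fun l H K _ _ φ B b h hb χ hχ χ' hχ' e e' => by
  obtain ⟨ψ, h1, h2⟩ := h.1 χ hχ
  obtain ⟨ψ', h3, h4⟩ := h.1 χ' hχ'
  rw [h2, h.ht] at e
  rw [h4, h.ht] at e'
  rw [h2, h4, deg_comp, deg_comp]
  exact hb ψ h1 ψ' h3 e e'

variable {l : ℕ} [hl : Fact l.Prime] {M : Ideal AlgInt} {H : Type} [Group H] [Finite H] {X : Bad}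

theorem lift_quot' (hM : IsPModular l M) (U : Subgroup H) [U.Normal] (hU : ¬ l ∣ Nat.card U)
    {b : Set (IrrCharacter (H ⧸ U))} (hb : IsPBlock M b) {D : Subgroup (H ⧸ U)} (hD : IsDefectGroup l M b D) :
    ∃ (B : Set (IrrCharacter H)) (P : Subgroup H), IsPBlock M B ∧ IsDefectGroup l M B P ∧
      P.map (QuotientGroup.mk' U) = D ∧ Inf (QuotientGroup.mk' U) B b := by
  have := Local.isPrime_of_isPModular hM
  obtain ⟨θ, hθ⟩ := Basic.isPBlock_nonempty hb
  have hB : IsPBlock M (blockOf M (H644.CentralQuot.infl U θ : H → ℂ)) := Basic.isPBlock_blockOf _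
  obtain ⟨c, hc, h1, h0, h2⟩ := TO.exists_defl hM hB U hU (f := (H644.CentralQuot.infl U θ : H → ℂ))
    ⟨_, Basic.mem_blockOf_self _, rfl⟩ fun n hn => congrArg (θ : H ⧸ U → ℂ) (((QuotientGroup.eq_one_iff n).2 hn).trans rfl)
  have h3 : ∀ ψ : IrrCharacter (H ⧸ U), ψ ∈ c ↔ H644.CentralQuot.infl U ψ ∈ blockOf M (H644.CentralQuot.infl U θ : H → ℂ) :=
    fun ψ => TO.rd_mem_Fn.symm.trans ((h1 ψ).trans (TO.rd_mem_Fn (χ := H644.CentralQuot.infl U ψ)))
  obtain rfl : c = b := Basic.isPBlock_eq_of_mem hc hb ((h3 θ).2 (Basic.mem_blockOf_self _)) hθ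
  obtain ⟨E, hE⟩ := H644.exists_isDefectGroup hM hB
  obtain ⟨x, hx⟩ := conj_defect hM hb (h2 E hE) hD
  obtain ⟨y, rfl⟩ := QuotientGroup.mk'_surjective U x
  refine ⟨_, _, hB, Basic.isDefectGroup_conj hE y, ?_, fun χ hχ => ?_, fun ψ hψ => ⟨_, (h3 ψ).1 hψ, rfl⟩⟩
  · rw [← hx, Subgroup.map_map, Subgroup.map_map]
    rfl
  · obtain ⟨f, hf⟩ := h0 _ (TO.rd_mem_Fn.2 hχ)
    obtain ⟨ψ, k1, k2⟩ := (h1 f).2 (hf ▸ TO.rd_mem_Fn.2 hχ)
    exact ⟨ψ, k1, hf.trans (k2 ▸ rfl)⟩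

/-- **quotients with kernel of order prime to `l`** -/
theorem lift_quot (hM : IsPModular l M) {K : Type} [Group K] [Finite K] (φ : H →* K) (hφ : Function.Surjective φ)
    (hU : ¬ l ∣ Nat.card φ.ker) {b : Set (IrrCharacter K)} (hb : IsPBlock M b) {D : Subgroup K}
    (hD : IsDefectGroup l M b D) : ∃ (B : Set (IrrCharacter H)) (P : Subgroup H), IsPBlock M B ∧ IsDefectGroup l M B P ∧
      P.map φ = D ∧ Inf φ B b := by
  let e := (QuotientGroup.quotientKerEquivOfSurjective φ hφ).symm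
  obtain ⟨B, P, hB, hP, h1, h2, h4⟩ := lift_quot' hM φ.ker hU (isPBlock_blkMap (e := e) hb) (isDefectGroup_blkMap (e := e) hD)
  refine ⟨B, P, hB, hP, ?_, fun χ hχ => ?_, fun ψ hψ => h4 _ (irrMap_mem_blkMap.2 hψ)⟩
  · have h3 : φ = e.symm.toMonoidHom.comp (QuotientGroup.mk' φ.ker) := rfl
    rw [h3, ← Subgroup.map_map]
    erw [h1]
    rw [Subgroup.map_map]
    exact (congrArg D.map (MonoidHom.ext e.symm_apply_apply)).trans D.map_id
  · obtain ⟨_, ⟨ψ, k1, rfl⟩, k2⟩ := h2 χ hχ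
    exact ⟨ψ, k1, k2⟩

theorem bx_quot (hX : Lf X) (hM : IsPModular l M) {K : Type} [Group K] (φ : H →* K) (hφ : Function.Surjective φ)
    (hU : ¬ l ∣ Nat.card φ.ker) (h : BX X l M H) : BX X l M K := fun b D hb hD hx => by
  have := Finite.of_surjective φ hφ
  obtain ⟨B, P, k1, k2, rfl, k3⟩ := lift_quot hM φ hφ hU hb hD
  rintro _ ⟨x, hx', rfl⟩ _ ⟨y, hy, rfl⟩
  rw [← map_mul, h B P k1 k2 (hX l H K φ B b k3 hx) x hx' y hy, map_mul]

theorem Hyp.not_of_bx {K S : Type} [Group K] [Group S] {B : Set (IrrCharacter K)} {D : Subgroup K} {σ : K →* S}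
    (H : BZ.Hyp l M B D σ) (h : BX X l M K) : ¬ X l K B := fun hx =>
  H.nab ⟨⟨fun a b => Subtype.ext (h B D H.hB H.hD hx a a.2 b b.2)⟩⟩

variable {S : Type} [Group S]

/-- a row from a cover `H` which dominates the covers with centre of order prime to `r` -/
theorem row_dom (hX : Lf X) (π : H →* S) (hk : ¬ l ∣ Nat.card π.ker) (r : ℕ)
    (hc : ∀ (K : Type) [Group K] [Finite K], IsQuasisimple K → ¬ r ∣ Nat.card (Subgroup.center K) →
      ∀ e : (K ⧸ Subgroup.center K) ≃* S, ∃ ψ : H →* K, Function.Surjective ψ ∧ ∀ s, e (QuotientGroup.mk (ψ s)) = π s)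
    (h : ∀ M, IsPModular l M → BX X l M H) {A : Type} [CommGroup A] (hA : HasSchurMultiplier S A)
    (hx : ∀ n, r ∣ n → n ∣ Monoid.exponent A → Cov X n l S) : RowX X l S := fun K _ _ σ M B D H => by
  by_cases e : r ∣ Nat.card (Subgroup.center K)
  · refine hx _ e ?_ K σ M B D H rfl
    obtain ⟨f, hf⟩ := H95.StemCover.exists_surj_ker hA H.qs.1.commutator_eq_top σ H.surj H.ker.le
    have hc : IsCyclic σ.ker := H.ker ▸ H.cyc
    rw [← H.ker, ← IsCyclic.exponent_eq_card]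
    exact MonoidHom.exponent_dvd hf
  · obtain ⟨ψ, hψ, h2⟩ := hc K H.qs e
      ((QuotientGroup.quotientMulEquivOfEq H.ker.symm).trans (QuotientGroup.quotientKerEquivOfSurjective σ H.surj))
    exact Hyp.not_of_bx H (bx_quot hX H.hM ψ hψ (fun h3 => hk (h3.trans (Subgroup.card_dvd_of_le (ker_le_of (σ := σ) h2)))) (h M H.hM))

/-- a row from a simply connected datum -/
theorem row_sc (hX : Lf X) {p : ℕ} [Fact p.Prime] {k : Type} [Field k] [CharP k p] {Y : Type} [Group Y] {N : Type} [Fintype N]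
    [DecidableEq N] {ρ : Y →* GL N k} {F : MulAut Y} {G : Subgroup Y} [IsAlgClosed k] {Z : Datum p ρ F G} (s : Sc Z S)
    (h : ∀ M, IsPModular l M → BX X l M (GF F G)) {A : Type} [CommGroup A] (hA : HasSchurMultiplier S A) (h2 : ¬ l ∣ Nat.card s.π.ker)
    (hx : ∀ n, p ∣ n → n ∣ Monoid.exponent A → Cov X n l S) : RowX X l S :=
  have := Z.amb.finite_GF G
  row_dom hX s.π h2 p s.cov h hA hx

theorem no_cov {p : ℕ} {A : Type} [CommGroup A] (h : ¬ p ∣ Nat.card A) (n : ℕ) (h1 : p ∣ n) (h2 : n ∣ Monoid.exponent A) : Cov X n l S :=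
  absurd (h1.trans (h2.trans Group.exponent_dvd_nat_card)) h

/-- a row from a perfect central extension whose kernel is the `l'`-part of the multiplier -/
theorem row_mult (hX : Lf X) (π : H →* S) (hπ : Function.Surjective π) (hc : π.ker ≤ Subgroup.center H) (hT : commutator H = ⊤)
    (hk : ¬ l ∣ Nat.card π.ker) {A : Type} [CommGroup A] {a : ℕ} (hA : HasSchurMultiplier S A)
    (hd : Nat.card A ∣ Nat.card π.ker * l ^ a) (h : ∀ M, IsPModular l M → BX X l M H) : RowX X l S := fun K _ _ σ M B D H => by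
  obtain ⟨ψ, h1, h2⟩ := cover_of_mult (l := l) (by
      rw [commutator_def, ← MonoidHom.range_eq_top.2 hπ, MonoidHom.range_eq_map, ← Subgroup.map_commutator,
        ← commutator_def, hT]) hA (H95.StemCover.isStem hT hπ hc)
    (H95.StemCover.isStem H.qs.1.commutator_eq_top H.surj H.ker.le) hk (H.ker ▸ H.zp) hd
  exact Hyp.not_of_bx H (bx_quot hX H.hM ψ h1 (fun h3 => hk (h3.trans (Subgroup.card_dvd_of_le (ker_le_of h2)))) (h M H.hM))

theorem row_small (h : ¬ l ^ 3 ∣ Nat.card S) : RowX X l S := fun _ _ _ _ _ _ _ H => absurd H.cube h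

/-- the simple group itself -/
theorem cov_one (hX : Lf X) [Finite S] (h : ∀ M, IsPModular l M → BX X l M S) : Cov X 1 l S := fun K _ _ σ M B D H hc => by
  have h1 : Function.Injective σ := (MonoidHom.ker_eq_bot_iff σ).1 (H.ker.trans (Subgroup.card_eq_one.1 hc))
  let e := (MulEquiv.ofBijective σ ⟨h1, H.surj⟩).symm
  refine Hyp.not_of_bx H (bx_quot hX H.hM e.toMonoidHom e.surjective ?_ (h M H.hM))
  rw [(MonoidHom.ker_eq_bot_iff _).2 e.injective, Subgroup.card_bot]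
  exact hl.out.not_dvd_one

end Cfsg.Agent.BZ.Cl
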