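import Cfsg.Agent.BZ.L.Cl.Main
import Cfsg.Agent.BZ.Lab.Geo
import Cfsg.Agent.KM.Tor.Gen

/-!
# BZ, classical groups, `l` odd: data with a natural representation (helper56)

`Nt X θ μ f e` : `θ` is a representation with central kernel and weights `μ j ∈ {0, ± ε_i}`; `Nt.fo` : `G ^ F` is in the class `Fo`;
`Nt.bz` : blocks with all heights zero have abelian defect groups.
-/

set_option autoImplicit false
set_option linter.unusedSectionVars false

namespace Cfsg.Agent.BZ.Cl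

open Cfsg Subgroup Matrix Cfsg.Agent.DL Cfsg.Agent.BZ.Lab Cfsg.Agent.KM Cfsg.Agent.Nodes.Reps
open Cfsg.Agent.TO.X.Cn (Pi1)

/-- the blocks with all heights zero have abelian defect groups -/
def BZg (l : ℕ) (M : Ideal AlgInt) (H : Type) [Group H] : Prop :=
  ∀ (B : Set (IrrCharacter H)) (D : Subgroup H), IsPBlock M B → IsDefectGroup l M B D → BK.HZ l B → BK.Ab D

theorem mul_two_comm {R : Type} [Fintype R] [DecidableEq R] {A V : Matrix R R ℤ} (h : A * V = (2 : ℤ) • 1) : V * A = (2 : ℤ) • 1 := by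
  have h1 : A.det ≠ 0 := fun e => by
    have := congrArg det h
    rw [det_mul, e, zero_mul, det_smul, det_one, mul_one] at this
    exact pow_ne_zero _ two_ne_zero this.symm
  have h2 : A.adjugate * (A * (V * A - (2 : ℤ) • 1)) = 0 := by
    rw [Matrix.mul_sub, ← Matrix.mul_assoc, h, Matrix.smul_mul, Matrix.mul_smul, Matrix.one_mul, Matrix.mul_one, sub_self, Matrix.mul_zero]
  rw [← Matrix.mul_assoc, adjugate_mul, Matrix.smul_mul, Matrix.one_mul] at h2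
  exact sub_eq_zero.1 ((smul_eq_zero.1 h2).resolve_left h1)

theorem fn_one {Γ A : Type} [Group Γ] [Group A] {φ : Γ → A} (h : ∀ ω, φ ω⁻¹ = (φ ω)⁻¹) : φ 1 ^ 2 = 1 := by
  have := h 1
  rw [inv_one] at this
  rw [pow_two]
  exact mul_eq_one_iff_eq_inv.2 this

theorem fn_zpow {Γ A : Type} [Group Γ] [Group A] {φ : Γ → A} {Q : ℕ} {e : ℤ} (h1 : ∀ ω, φ (ω ^ Q) = φ ω ^ Q) (h2 : ∀ ω, φ ω⁻¹ = (φ ω)⁻¹)
    (he : e = Q ∨ e = -(Q : ℤ)) (ω : Γ) : φ (ω ^ e) = φ ω ^ e := by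
  rcases he with rfl | rfl
  · rw [zpow_natCast, zpow_natCast, h1]
  · rw [_root_.zpow_neg, _root_.zpow_neg, zpow_natCast, zpow_natCast, h2, h1]

variable {p : ℕ} [Fact p.Prime] {k : Type} [Field k] [CharP k p] [IsAlgClosed k] {Y : Type} [Group Y] {N : Type} [Fintype N]
  [DecidableEq N] {ρ : Y →* GL N k} {F : MulAut Y} {G : Subgroup Y} {J : Type} [Fintype J] [DecidableEq J]

/-- a natural representation -/
structure Nt (X : Datum p ρ F G) (θ : Y →* GL J k) (μ : J → X.R → ℤ) (f : ℕ) (e : ℤ) : Prop where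
  f0 : 0 < f
  eq : e = (p ^ f : ℕ) ∨ e = -((p ^ f : ℕ) : ℤ)
  ker : ∀ g ∈ G, θ g = 1 → ∀ y ∈ G, y * g = g * y
  dg : ∀ c, (θ (X.τ c) : Matrix J J k) = diagonal fun j => ((chr (μ j) c : kˣ) : k)
  fr : ∃ σ : Equiv.Perm J, ∀ j, μ j ᵥ* X.Mx = e • μ (σ j)
  bas : ∃ (b : X.R → J) (V : Matrix X.R X.R ℤ), (Matrix.of fun i => μ (b i)) * V = (2 : ℤ) • 1 ∧
    ∀ j, μ j = 0 ∨ ∃ i, μ j = μ (b i) ∨ μ j = -μ (b i)

namespace Nt

variable {X : Datum p ρ F G} {θ : Y →* GL J k} {μ : J → X.R → ℤ} {f : ℕ} {e : ℤ} (h : Nt X θ μ f e)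
include h

theorem pow {m : ℕ} (hm : 0 < m) : Nt (X.pow hm) θ μ (f * m) (e ^ m) where
  f0 := Nat.mul_pos h.f0 hm
  eq := by
    rw [pow_mul, Nat.cast_pow _ m]
    rcases h.eq with rfl | rfl
    · exact Or.inl rfl
    · exact (Nat.even_or_odd m).imp (fun e => e.neg_pow _) fun e => e.neg_pow _
  ker := h.ker
  dg := h.dg
  fr := by
    obtain ⟨σ, hσ⟩ := h.fr
    have key : ∀ (j : J) (m : ℕ), μ j ᵥ* X.Mx ^ m = e ^ m • μ ((σ ^ m) j) := fun j m => by
      induction m with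
      | zero => simp
      | succ m ih => rw [pow_succ, ← vecMul_vecMul, ih, smul_vecMul, hσ, smul_smul, pow_succ, pow_succ', Equiv.Perm.mul_apply]
    exact ⟨σ ^ m, fun j => key j m⟩
  bas := h.bas

theorem sq {c : X.R → kˣ} (hc : ∀ j, chr (μ j) c = 1) : c ^ 2 = 1 := by
  obtain ⟨b, V, h1, -⟩ := h.bas
  have h2 : mon (Matrix.of fun i => μ (b i)) c = 1 := funext fun i => hc (b i)
  have h3 := mon_mul V (Matrix.of fun i => μ (b i)) c
  rwa [mul_two_comm h1, h2, map_one, mon_zsmul, mon_one, zpow_two, ← pow_two] at h3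

theorem conj {n : Y} (j j' : J) (hn : (θ n : Matrix J J k) j j' ≠ 0) {c c' : X.R → kˣ} (e1 : n * X.τ c * n⁻¹ = X.τ c') :
    chr (μ j) c' = chr (μ j') c := by
  have := congrArg (fun y => (θ y : Matrix J J k)) (show X.τ c' * n = n * X.τ c by rw [← e1, inv_mul_cancel_right])
  simp only [map_mul, Units.val_mul, h.dg] at this
  exact Units.ext (dg_comm.1 this j j' hn)

theorem real {t : ℕ} (ht : t.Coprime 2) (s : X.R → kˣ) (hs : ∀ i, s i ^ t = 1) {b : X.R → J} {V : Matrix X.R X.R ℤ}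
    (h1 : (Matrix.of fun i => μ (b i)) * V = (2 : ℤ) • 1) : ∃ c : X.R → kˣ, c ^ t = 1 ∧ ∀ i, chr (μ (b i)) c = s i := by
  obtain ⟨u, hu⟩ := (Nat.coprime_two_right.1 ht)
  have h2 : s ^ t = 1 := funext hs
  refine ⟨mon V (s ^ (u + 1)), by rw [← map_pow, ← pow_mul, mul_comm, pow_mul, h2, one_pow, map_one], fun i => ?_⟩
  have h3 := mon_mul (Matrix.of fun i => μ (b i)) V (s ^ (u + 1))
  rw [h1, mon_zsmul, mon_one, zpow_two, ← pow_add, show u + 1 + (u + 1) = t + 1 by omega, pow_succ, h2, one_mul] at h3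
  exact (congrFun h3 i).symm

/-- **the finite group lies in the class** -/
theorem fo (hP : Pi1 X 1) (hL : ∀ s : ℕ, s.Prime → s ≠ 2 → Tor.Lev X s) : Fo 2 (p ^ f) (θ.comp (GF F G).subtype) where
  ch := by rw [Nat.cast_pow, CharP.cast_eq_zero, zero_pow h.f0.ne']
  ker g hg := by
    refine ⟨mem_center_iff.2 fun y => Subtype.ext (h.ker g g.2.1 hg y y.2.1), 1, Subtype.ext ?_⟩
    have h1 : (g : Y) ∈ X.T := X.centralizer_T ▸ ⟨g.2.1, fun y hy => h.ker g g.2.1 hg y (X.T_le_G hy)⟩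
    obtain ⟨c, hc⟩ := (X.mem_T _).1 h1
    have h2 := h.dg c
    rw [hc, show θ g = 1 from hg, Units.val_one, ← diagonal_one] at h2
    rw [pow_one, coe_pow, ← hc, ← map_pow, h.sq fun j => Units.ext (congrFun (diagonal_injective h2) j).symm, map_one, coe_one]
  fn s hs h1 h2 A _ _ ι hA hc := by
    have hp : s ≠ p := fun e1 => h1 (e1 ▸ dvd_pow_self s h.f0.ne')
    have h3 : s ≠ 2 := fun e1 => by simp [e1] at h2
    obtain ⟨y, hy, hN, h4, -⟩ := Tor.exists_frame hP hs hp (Nat.coprime_one_right s) (hL s hs h3)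
      (Z := Set.range fun a => (ι a : Y)) (Set.finite_range _) (by rintro _ ⟨a, rfl⟩; exact (ι a).2.1)
      (by rintro _ ⟨a, rfl⟩; exact ⟨a, (ι a).2.2.symm⟩)
      (by rintro _ ⟨a, rfl⟩; exact (hA a).imp fun j e1 => by rw [← coe_pow, ← map_pow, e1, map_one, coe_one])
      (by rintro _ ⟨a, rfl⟩ _ ⟨b, rfl⟩; rw [← coe_mul, ← map_mul, hc, map_mul, coe_mul])
    have h5 : ∀ a, ∃ c, X.τ c = y⁻¹ * ι a * y := fun a => (X.mem_T _).1 (mem_cj.1 (h4 ⟨a, rfl⟩))
    choose γ hγ using h5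
    let γ' : A →* (X.R → kˣ) := MonoidHom.mk' γ fun a b => X.τ_inj (by rw [map_mul, hγ, hγ, hγ, map_mul, coe_mul]; group)
    have hm : ∀ (g : GF F G) (c : X.R → kˣ), X.τ c = y⁻¹ * g * y →
        mt (θ.comp (GF F G).subtype) (θ y) g = diagonal fun j => ((chr (μ j) c : kˣ) : k) := fun g c e1 => by
      rw [← h.dg, e1, map_mul, map_mul, map_inv]
      show (((θ y)⁻¹ * θ g * (θ y)⁻¹⁻¹ : GL J k) : Matrix J J k) = _
      rw [inv_inv]
    obtain ⟨σ, hσ⟩ := h.fr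
    have key : ∀ j j', (θ (y⁻¹ * F y) : Matrix J J k) j j' ≠ 0 → ∀ c c', y⁻¹ * F (y * X.τ c * y⁻¹) * y = X.τ c' →
        chr (μ j) c' = chr (μ (σ j')) c ^ e := fun j j' e1 c c' e2 => by
      rw [← chr_zsmul, ← hσ, ← chr_mon]
      refine h.conj j j' e1 ?_
      rw [← e2, ← X.F_τ, map_mul, map_mul, map_inv]
      group
    have kw : ∀ j j', (θ (y⁻¹ * F y) : Matrix J J k) j j' ≠ 0 → (chr (μ j)).comp γ' = (chr (μ (σ j'))).comp γ' ^ e := fun j j' e1 =>
      MonoidHom.ext fun a => key j j' e1 (γ a) (γ a) (by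
        rw [hγ, show y * (y⁻¹ * ι a * y) * y⁻¹ = ι a by group, (mem_GF.1 (ι a).2).2])
    have h6 : ∀ i, ∃ j, (chr (μ j)).comp γ' = (chr (μ i)).comp γ' ^ e := fun i => by
      obtain ⟨j, hj⟩ := col_ne (ρ := θ) (h := 1) (y⁻¹ * F y) (σ.symm i)
      exact ⟨j, (kw j _ (by simpa [mt] using hj)).trans (by rw [Equiv.apply_symm_apply])⟩
    refine ⟨θ y, fun j => (chr (μ j)).comp γ', fun a => hm _ _ (hγ a), fun i => ?_, fun t φ k1 k2 k3 k4 => ?_⟩
    · obtain ⟨j, hj⟩ := h6 i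
      obtain ⟨j', hj'⟩ := h6 j
      refine ⟨j', MonoidHom.ext fun a => ?_⟩
      beta_reduce
      rw [hj', hj, MonoidHom.zpow_apply, MonoidHom.zpow_apply, MonoidHom.pow_apply, ← _root_.zpow_mul, ← zpow_natCast]
      congr 1
      rcases h.eq with e1 | e1 <;> rw [e1] <;> push_cast <;> ring
    · obtain ⟨b, V, e1, e2⟩ := h.bas
      obtain ⟨c, e3, e4⟩ := h.real k1 (fun i => φ ((chr (μ (b i))).comp γ')) (fun i => k4 _) e1
      have e5 : ∀ {x : kˣ}, x ^ 2 = 1 → x ^ t = 1 → x = 1 := fun e6 e7 => orderOf_eq_one_iff.1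
        (Nat.eq_one_of_dvd_coprimes k1 (orderOf_dvd_of_pow_eq_one e7) (orderOf_dvd_of_pow_eq_one e6))
      have e6 : ∀ j, chr (μ j) c = φ ((chr (μ j)).comp γ') := fun j => by
        rcases e2 j with e7 | ⟨i, e7 | e7⟩
        · have e8 : (chr (μ j)).comp γ' = 1 := MonoidHom.ext fun a => by rw [e7]; exact chr_zero _
          rw [e8, e7, chr_zero]
          exact (e5 (fn_one (Γ := A →* kˣ) k3) (k4 _)).symm
        · rw [e7, e4]
        · have e8 : (chr (μ j)).comp γ' = ((chr (μ (b i))).comp γ')⁻¹ := MonoidHom.ext fun a => by rw [e7]; exact chr_neg _ _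
          rw [e8, k3, e7, chr_neg, e4]
      have e7 : ∀ ω, φ (ω ^ e) = φ ω ^ e := fn_zpow (Γ := A →* kˣ) k2 k3 h.eq
      obtain ⟨c', hc'⟩ := (X.mem_T _).1 (X.conj_mem_T hN ((X.mem_T _).2 ⟨_, (X.F_τ c).symm⟩))
      have e8 : y⁻¹ * F (y * X.τ c * y⁻¹) * y = X.τ c' := by
        rw [hc', map_mul, map_mul, map_inv]
        group
      have e9 : c' = c := by
        have e10 : (c' / c) ^ 2 = 1 := h.sq fun j => by
          obtain ⟨j', hj'⟩ : ∃ j', (θ (y⁻¹ * F y) : Matrix J J k) j j' ≠ 0 := by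
            by_contra! e11
            have := congrFun (congrFun (θ (y⁻¹ * F y)).mul_inv j) j
            rw [one_apply_eq, mul_apply] at this
            simp only [e11, zero_mul, Finset.sum_const_zero, zero_ne_one] at this
          rw [map_div, key j j' hj' c c' e8, e6, e6, kw j j' hj', e7, div_self']
        have e11 : c' ^ t = 1 := X.τ_inj (by
          rw [map_pow, hc', conj_pow, ← map_pow, ← map_pow, e3, map_one, map_one, mul_one, mul_inv_cancel])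
        exact div_eq_one.1 (funext fun i => e5 (congrFun e10 i) (by
          rw [← Pi.pow_apply, div_pow, e11, e3, div_one]; rfl))
      refine ⟨⟨y * X.τ c * y⁻¹, mem_GF.2 ⟨G.mul_mem (G.mul_mem hy (X.T_le_G (X.τ_mem c))) (G.inv_mem hy), ?_⟩⟩, (hm _ c (by group)).trans ?_⟩
      · rw [e9] at e8
        exact (show _ = y * (y⁻¹ * F (y * X.τ c * y⁻¹) * y) * y⁻¹ by group).trans (by rw [e8])
      · exact congrArg diagonal (funext fun j => by rw [e6])

/-- **the theorem for a classical datum** -/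
theorem bz (hP : Pi1 X 1) (hL : ∀ s : ℕ, s.Prime → s ≠ 2 → Tor.Lev X s) {l : ℕ} (h2 : l ≠ 2) (hp : l ≠ p) {M : Ideal AlgInt}
    (hM : IsPModular l M) : BZg l M (GF F G) := fun B D hB hD hZ => by
  obtain ⟨N₀, B₀, M₀, h0, h1⟩ := boxGeo X l hM.1 hp
  obtain ⟨m, k1, k2, k3⟩ := Nat.exists_prime_gt_modEq_one (B₀ + l + 2 * Fintype.card J) h0
  obtain ⟨α, k4, k5⟩ := h1 m k1 (by omega) k3
  have := X.amb.finite_GF G
  have := (X.pow k1.pos).amb.finite_GF G
  have := Fintype.ofFinite (GF F G)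
  have := Fintype.ofFinite (GF (F ^ m) G)
  have k6 : GF F G ≤ GF (F ^ m) G := inf_le_inf_left G (fix_le_fix_pow m)
  have C := (h.pow k1.pos).fo hP hL
  rw [pow_mul] at C
  refine main_fix ⟨Nat.one_lt_pow h.f0.ne' (Fact.out : p.Prime).one_lt, hM.1, h2, fun e1 => hp ((Nat.prime_dvd_prime_iff_eq hM.1 Fact.out).1
    (hM.1.dvd_of_dvd_pow e1)), (Nat.coprime_primes hM.1 Nat.prime_two).2 h2, k1, by omega, by omega,
    fun r _ e1 e2 _ _ => (Nat.coprime_primes e1 Nat.prime_two).2 e2⟩ hM k5 C (inclusion k6) (inclusion_injective k6) (fun g => ?_) hB hD hZ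
  exact ⟨fun e1 => ⟨⟨g, g.2.1, (k4 g).symm.trans (congrArg Subtype.val e1)⟩, rfl⟩, by
    rintro ⟨x, rfl⟩
    exact Subtype.ext ((k4 _).trans x.2.2)⟩

end Nt

end Cfsg.Agent.BZ.Cl
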