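import Cfsg.Agent.BZ.L.Cl.Dat
import Cfsg.Agent.BZ.L.Cl.Tr
import Cfsg.Agent.KM.Sc.C
import Cfsg.Agent.KM.Sc.Dat
import Cfsg.Agent.KM.Sc.BD1
import Cfsg.Agent.S2093
import Cfsg.Agent.S2098

/-!
# BZ: the rows of the symplectic and orthogonal groups, `l` odd (helper56)

`DatX X` : the theorem for the data with a natural representation (`datP : DatX XP`); `psp_of`, `odd_of`, `plus_of`, `minus_of`;
**`psp`, `oodd`, `oplus`, `ominus`** : the rows `RowP`.
-/

set_option autoImplicit false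
set_option linter.unusedSectionVars false
set_option maxHeartbeats 400000

namespace Cfsg.Agent.BZ.Cl

open Cfsg Cfsg.Agent.DL Cfsg.Agent.KM Matrix
open Cfsg.Agent.TO.X.Cn (Pi1)

/-- the theorem for the data with a natural representation -/
def DatX (X : Bad) : Prop :=
  ∀ {p : ℕ} [Fact p.Prime] {k : Type} [Field k] [CharP k p] [IsAlgClosed k] {Y : Type} [Group Y] {N : Type} [Fintype N]
    [DecidableEq N] {ρ : Y →* GL N k} {F : MulAut Y} {G : Subgroup Y} {J : Type} [Fintype J] [DecidableEq J] (Z : Datum p ρ F G)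
    (θ : Y →* GL J k) (μ : J → Z.R → ℤ) (f : ℕ) (e : ℤ), Nt Z θ μ f e → Z.QS → Deg.NT p ρ F → Pi1 Z 1 →
    (∀ s : ℕ, s.Prime → s ≠ 2 → Tor.Lev Z s) → ∀ {l : ℕ}, l ≠ 2 → l ≠ p → ∀ {M : Ideal AlgInt}, IsPModular l M → BX X l M (GF F G)

theorem datP : DatX XP := fun _ _ _ _ _ h _ _ hP hL _ h2 hp _ hM => h.bz hP hL h2 hp hM

variable {X : Bad}

section BD

open Cfsg.Agent.LangThm Sum Cfsg.Agent.TwoF.DC Cfsg.Agent.TwoF.DC.TC Cfsg.Agent.TwoF.DC.TBD Cfsg.Agent.TwoF.DC.TBD.Cl Cfsg.Agent.KM.BD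
  Cfsg.Agent.KM.Dat

section Rep

variable {m : ℕ} {Φ : Type} [DecidableEq Φ] (C : CD m Φ) (k : Type) [Field k]

/-- the vector representation -/
noncomputable def thG : C.GG k →* GL (JJ m) k :=
  ((LinearMap.toMatrixAlgEquiv' (R := k) (n := JJ m)).toMulEquiv.toMonoidHom.comp C.th).toHomUnits

/-- its weights -/
def nu (x : JJ m) (i : Fin m) : ℤ := C.X.cv (C.X.zi i) ⬝ᵥ wo x

variable {k}

theorem thG_apply (g : C.GG k) (x y : JJ m) : (thG C k g : Matrix (JJ m) (JJ m) k) x y = C.th g (ev k y) x := rfl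

theorem thG_ker {g : C.GG k} (h : thG C k g = 1) : g ∈ Subgroup.center (C.GG k) := by
  have h1 : ∀ y, C.th g (ev k y) = (1 : k) • ev k y := fun y => funext fun x => by
    rw [← thG_apply, h, one_smul, ev_apply, Units.val_one, one_apply]
  exact C.mem_center (one_mul 1) (fun a => h1 _) fun _ => h1 _

theorem thG_diag [Fintype Φ] (p : ℕ) (h2 : (∃ b, C.ib b = inl ()) → (2 : k) ≠ 0) (c : Fin m → kˣ) :
    (thG C k ((C.rdat k p h2).κ c) : Matrix (JJ m) (JJ m) k) = diagonal fun y => ((chr (nu C y) c : kˣ) : k) := by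
  induction c using Pi.mulSingle_induction with
  | one => simp only [map_one, Units.val_one, diagonal_one]
  | mul a b ha hb => simp only [map_mul, Units.val_mul, ha, hb, diagonal_mul_diagonal]
  | mulSingle i c =>
    rw [RDat.κ_single]
    refine Matrix.ext fun x y => ?_
    rw [thG_apply, C.th_dg (t := tor (C.X.cv (C.X.zi i)) c) rfl, Pi.smul_apply, ev_apply, diagonal_apply]
    split_ifs with e
    · subst e
      rw [smul_eq_mul, mul_one]
      exact congrArg _ ((ch_cch _ _ c).trans (wch_single (nu C x) i c).symm)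
    · exact smul_zero _

theorem nu_bas (h : ∀ w, ∃ v, C.X.dual.E v = (2 : ℤ) • w) : ∃ (b : Fin m → JJ m) (V : Matrix (Fin m) (Fin m) ℤ),
    (Matrix.of fun i => nu C (b i)) * V = (2 : ℤ) • 1 ∧ ∀ j, nu C j = 0 ∨ ∃ i, nu C j = nu C (b i) ∨ nu C j = -nu C (b i) := by
  choose v hv using h
  refine ⟨fun i => inr (inl i), Matrix.of fun r i => v (Pi.single i 1) r, Matrix.ext fun i i' => ?_, ?_⟩
  · have := congrFun (hv (Pi.single i' 1)) i
    rw [Euc.E, Finset.sum_apply] at this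
    rw [mul_apply, Matrix.smul_apply, one_apply, ← Pi.single_apply, ← Pi.smul_apply, ← this]
    refine Finset.sum_congr rfl fun r _ => ?_
    show C.X.cv (C.X.zi r) ⬝ᵥ Pi.single i 1 * _ = _ * C.X.cv (C.X.zi r) i
    rw [dotProduct_single, mul_one, mul_comm]
    rfl
  · rintro (_ | i | i)
    · exact Or.inl (funext fun _ => dotProduct_zero _)
    · exact Or.inr ⟨i, Or.inl rfl⟩
    · exact Or.inr ⟨i, Or.inr (funext fun _ => dotProduct_neg _ _)⟩

end Rep

variable (hX : Lf X) (hD : DatX X)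
include hX hD

theorem row_cd {m : ℕ} {Φ : Type} [Fintype Φ] [DecidableEq Φ] (C : CD m Φ)
    (h : ∀ w, ∃ v, C.X.dual.E v = (2 : ℤ) • w) {p : ℕ} [Fact p.Prime] {k : Type} [Field k] [IsAlgClosed k] [CharP k p]
    (lf : ∀ a : k, ∃ m, 0 < m ∧ a ^ p ^ m = a) (h2 : (∃ b, C.ib b = inl ()) → (2 : k) ≠ 0)
    (P : Tws (C.rdat k p h2)) (hP : P.Fr = C.fr (frobenius k p)) (hF : (C.rdat k p h2).Fa)
    (hσ : ∃ σ : Equiv.Perm (JJ m), ∀ x j, nu C x (P.sι j) = nu C (σ x) j) {S : Type} [Group S]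
    (hS : IsSimpleGroup S) (hn : ¬ IsMulCommutative S) (hπ : PiP P S) {A : Type} [CommGroup A]
    (hA : HasSchurMultiplier S A) (h4 : Nat.card A ∣ 4) (hd : p ≠ 2 → Nat.card A ≤ Nat.card P.Zc) {l : ℕ} [hl : Fact l.Prime]
    (hp : l ≠ p) (hl2 : l ≠ 2) (hx : ∀ n, p ∣ n → n ∣ Monoid.exponent A → Cov X n l S) : RowX X l S := by
  obtain ⟨π, k1, k2⟩ := hπ
  obtain ⟨d, a, k3, k4, k5⟩ : ∃ d a, Nat.card A ∣ d * p ^ a ∧ 0 < d ∧ d ≤ Nat.card P.Zc := by
    by_cases e : p = 2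
    · have := TE.finite_Zc P
      exact ⟨1, 2, by rw [e]; exact h4, one_pos, Nat.card_pos⟩
    · exact ⟨_, 0, by simp, Nat.pos_of_dvd_of_pos h4 four_pos, hd e⟩
  have H : Alg P (rho C k) := ⟨hF, lf, rho_inj C k, fun g => by rw [hP]; exact rho_fr C p g, rho_poly C p h2, 1, mu C,
    fun c => by rw [inv_one, one_mul, mul_one, rho_diag]⟩
  obtain ⟨s, -⟩ := H.sc hS hn k1 k2 hA k3 k4 k5
  have := H.dat.amb.finite_GF ⊤
  refine row_sc hX s (fun M hM => hD H.dat (thG C k) (nu C) P.f ((p ^ P.f : ℕ) : ℤ) ⟨P.f_pos, Or.inl rfl,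
    fun g _ hg y _ => Subgroup.mem_center_iff.1 (thG_ker C hg) y, thG_diag C p h2, ?_, nu_bas C h⟩ H.qs H.nt H.pi1
    (fun l hl hl2 j u => ?_) hl2 hp hM) hA
    (fun e => not_dvd_four hl.out hl2 h4 (e.trans (H95.StemCover.card_ker_dvd hA s.perf s.π s.surj s.ker.le))) hx
  · obtain ⟨σ, hσ⟩ := hσ
    refine ⟨σ, fun x => funext fun j : Fin m => ?_⟩
    show ∑ i, nu C x i * (Pi.single (P.sι.symm i) ((p ^ P.f : ℕ) : ℤ) : Fin m → ℤ) j = ((p ^ P.f : ℕ) : ℤ) * nu C (σ x) j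
    rw [Finset.sum_eq_single (P.sι j) (fun i _ hi => by
      rw [Pi.single_eq_of_ne (fun e => hi (by rw [e, Equiv.apply_symm_apply])), mul_zero]) (by simp), Equiv.symm_apply_apply,
      Pi.single_eq_same, hσ, mul_comm]
  · obtain ⟨c, hc, v, hv⟩ := levR C h hl hl2 j u
    refine ⟨c, hc, v, fun a ha => ?_⟩
    obtain ⟨x, rfl⟩ := H.rt_iff.1 ha
    rw [H.dat_wt]
    exact hv x

theorem odd_of : For (RowX X) (Od COdd) := by
  rintro l hl S _ _ _ hn ⟨hl2, F, _, _, m, hlF, hm, hodd, ⟨e⟩⟩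
  obtain ⟨p, hc⟩ := CharP.exists F
  obtain ⟨f, hp, hq⟩ := FiniteField.card F p
  have : Fact p.Prime := ⟨hp⟩
  have := Finite.of_equiv _ e.toEquiv
  refine RowX.of_equiv e ?_
  have hlp := ne_char (p := p) hlF
  by_cases h5 : m = 3 ∧ Fintype.card F = 3
  · obtain ⟨rfl, h5⟩ := h5
    obtain rfl : p = 3 := (Nat.prime_dvd_prime_iff_eq hp Nat.prime_three).1 (h5 ▸ hq ▸ dvd_pow_self p f.pos.ne')
    exact row_small (small_O7 h5 hl.out hl2 hlp)
  have hp2 : p ≠ 2 := by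
    rintro rfl
    rw [hq, Nat.odd_pow_iff f.pos.ne'] at hodd
    exact absurd hodd (by decide)
  let k := AlgebraicClosure F
  have h2 : (2 : k) ≠ 0 := fun e =>
    hp2 ((Nat.prime_dvd_prime_iff_eq hp Nat.prime_two).1 ((CharP.cast_eq_zero_iff k p 2).1 (by exact_mod_cast e)))
  let D := (cB m).rdat k p fun _ => h2
  let P := tw0 D f f.pos ((cB m).fr (frobenius k p)) ((cB m).fr_z p _ _) ((cB m).fr_y p _ _)
  have hF : D.Fa := TE.fa_of_faith (boxB p hp2 m hm k _ D rfl).faith ⟨0, by omega⟩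
  have hv : Vec D (fun b => b.1.1) ibB (cB m).th := by
    rw [show (fun b : PR m => b.1.1) = fun b => Sum.inl ((cB m).ia b) from funext fun b => (inl_ix b.lt).symm]
    exact (cB m).vec p _
  have hπ := (boxPi p m k _ F (algebraMap F k) _).1 hp2 hm D rfl hF hv P rfl hq
  have hA := S2094.result rfl hodd m hm h5
  refine row_cd hX hD (cB m) (two_B m) (lf_closure F p) _ P rfl hF ⟨1, fun _ _ => rfl⟩ e.symm.isSimpleGroup (noncomm_of e hn) hπ hA
    (by rw [card_cyc]; decide) (fun _ => ?_) hlp hl2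
    (no_cov (by rw [card_cyc, Nat.prime_dvd_prime_iff_eq hp Nat.prime_two]; exact hp2))
  rw [card_cyc]
  refine TE.le_card_Zc P (m := 2) Nat.prime_two (Pi.single ⟨m - 1, by omega⟩ 1) ⟨m - 1, by omega⟩ (by simp) (fun i => ?_)
    fun _ => ⟨fun e => hp2 ((Nat.prime_dvd_prime_iff_eq hp Nat.prime_two).1 e), fun i => ?_⟩
  · rw [Finset.sum_eq_single ⟨m - 1, by omega⟩ (fun j _ hj => by simp [hj]) (by simp)]
    refine Dvd.dvd.mul_left ?_ _
    show _ ∣ rv (zc _) ⬝ᵥ _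
    rw [rv_zc_dot, dif_neg (by simp only; omega)]
    exact dvd_mul_right _ _
  · rw [show P.sι i = i from rfl]
    conv_lhs => rw [← mul_one (Pi.single (M := fun _ => ℕ) _ _ _)]
    exact Nat.ModEq.mul_left _ (Nat.odd_iff.1 (hq ▸ hodd)).symm

theorem plus_of (h8 : ∀ (F : Type) [Field F] [Fintype F], Fintype.card F = 2 → Cov X 2 3 (POmega F (quadFormPlus 4 F))) :
    For (RowX X) (Od CPlus) := by
  rintro l hl S _ _ _ hn ⟨hl2, F, _, _, m, hlF, hm, ⟨e⟩⟩
  obtain ⟨p, hc⟩ := CharP.exists F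
  obtain ⟨f, hp, hq⟩ := FiniteField.card F p
  have : Fact p.Prime := ⟨hp⟩
  have := Finite.of_equiv _ e.toEquiv
  refine RowX.of_equiv e ?_
  have hlp := ne_char (p := p) hlF
  have : Fact (2 ≤ m) := ⟨by omega⟩
  let k := AlgebraicClosure F
  let P := tD m k p f f.pos 1
  have hF : (dD m k p).Fa := TE.fa_of_faith (faithD (by omega) p k) (fst m)
  have hπ := ((boxPi p m k _ F (algebraMap F k) _).2 hm _ rfl hF vec_D P hq).1 rfl
  by_cases h5 : m = 4 ∧ Fintype.card F = 2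
  · obtain ⟨rfl, h5⟩ := h5
    by_cases h3 : l = 3
    · subst h3
      obtain rfl : p = 2 := (Nat.prime_dvd_prime_iff_eq hp Nat.prime_two).1 (h5 ▸ hq ▸ dvd_pow_self p f.pos.ne')
      refine row_cd hX hD (cD 4) (two_D 4) (lf_closure F 2) _ P rfl hF ⟨1, fun _ _ => rfl⟩ e.symm.isSimpleGroup (noncomm_of e hn) hπ
        (S2098.result h5) (by rw [card_sq]) (fun h => absurd rfl h) hlp hl2 fun n h1 h2 => ?_
      obtain rfl : n = 2 := Nat.dvd_antisymm (h2.trans (Monoid.exponent_dvd_of_forall_pow_eq_one (by decide))) h1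
      exact h8 F h5
    · exact row_small (small_O8 h5 hl.out hl2 h3)
  obtain ⟨A, _, hA, k1, k2, k3⟩ := mult_plus hp (hq ▸ dvd_pow_self p f.pos.ne') hm h5
  refine row_cd hX hD (cD m) (two_D m) (lf_closure F p) _ P rfl hF ⟨1, fun _ _ => rfl⟩ e.symm.isSimpleGroup (noncomm_of e hn) hπ hA k2
    (fun h2 => ?_) hlp hl2 (no_cov k1)
  obtain ⟨z2, z4⟩ := Nm.card_Zc (D := dD m k p) rfl P h2 (by omega) (Or.inl rfl)
  by_cases h7 : m % 2 = 1 ∧ Fintype.card F % 4 = 3
  · exact (Nat.le_of_dvd two_pos (k3 h7)).trans z2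
  · exact (Nat.le_of_dvd four_pos k2).trans (z4 (Or.inl ⟨rfl, by rw [hq] at h7; exact h7⟩))

theorem minus_of : For (RowX X) (Od CMinus) := by
  rintro l hl S _ _ _ hn ⟨hl2, F, _, _, m, a, b, hlF, hm, hab, ⟨e⟩⟩
  obtain ⟨p, hc⟩ := CharP.exists F
  obtain ⟨f, hp, hq⟩ := FiniteField.card F p
  have : Fact p.Prime := ⟨hp⟩
  refine RowX.of_equiv e ?_
  have hlp := ne_char (p := p) hlF
  have : Fact (2 ≤ m) := ⟨by omega⟩
  let k := AlgebraicClosure F
  let P := tD m k p f f.pos ⟨gN m, Subgroup.mem_zpowers _⟩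
  have hF : (dD m k p).Fa := TE.fa_of_faith (faithD (by omega) p k) (fst m)
  have hπ := ((boxPi p m k _ F (algebraMap F k) _).2 hm _ rfl hF vec_D P hq).2 rfl a b hab
  have hA := S2099.result rfl m hm a b hab
  refine row_cd hX hD (cD m) (two_D m) (lf_closure F p) _ P rfl hF
    ⟨Equiv.sumCongr (Equiv.refl _) (Function.Involutive.toPerm gI gI_gI), fun x j => ?_⟩ e.symm.isSimpleGroup (noncomm_of e hn) hπ hA
    (by rw [card_cyc]; exact Nat.gcd_dvd_left _ _) (fun h2 => ?_) hlp hl2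
    (no_cov (by rw [card_cyc]; exact not_dvd_add hp (hq ▸ dvd_pow_self p f.pos.ne') (by omega) 4))
  · show rd (zd (gN m j)) ⬝ᵥ _ = rd (zd j) ⬝ᵥ _
    rw [← gP_zd, rd_gP, gV_dot]
    rcases x with _ | x
    · exact congrArg _ (funext fun i => by simp [gV, wo])
    · exact congrArg _ (gV_wv x)
  obtain ⟨z2, z4⟩ := Nm.card_Zc (D := dD m k p) rfl P h2 (by omega) (Or.inr rfl)
  rw [card_cyc, hq]
  by_cases h7 : m % 2 = 1 ∧ p ^ (f : ℕ) % 4 = 3
  · exact (Nat.le_of_dvd four_pos (Nat.gcd_dvd_left _ _)).trans (z4 (Or.inr ⟨rfl, h7⟩))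
  · have h3 := Nm.pow_mod (m := m) (Nat.odd_iff.1 (hp.odd_of_ne_two h2).pow : p ^ (f : ℕ) % 2 = 1)
    rw [if_neg h7] at h3
    exact (Nat.le_of_dvd two_pos (Nm.gcd_dvd_two (by omega))).trans z2

end BD

section C

open Cfsg.Agent.KZ.Dat Cfsg.Agent.Nodes.TypeC Cfsg.Agent.ODD.C2 Cfsg.Agent.KM.ScC

theorem natC {n : ℕ} {k : Type} [Field k] {p : ℕ} [Fact p.Prime] [CharP k p] [IsAlgClosed k]
    (hk : ∀ a : k, ∃ j, 0 < j ∧ a ^ p ^ j = a) {e : ℕ} (he : 0 < e) :
    Nt (datC n hk he) (MonoidHom.id _) wt e ((p ^ e : ℕ) : ℤ) where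
  f0 := he
  eq := Or.inl rfl
  ker g _ hg y _ := by rw [show g = 1 from hg, mul_one, one_mul]
  dg c := (coe_τC c).trans (congrArg diagonal (funext fun a => congrArg _ (chr_wtC a c).symm))
  fr := ⟨1, fun j => by
    show wt j ᵥ* ((p : ℤ) ^ e • (1 : Matrix (Fin n) (Fin n) ℤ)) = _
    rw [vecMul_smul, vecMul_one, Nat.cast_pow]
    rfl⟩
  bas := ⟨fun i => (i, true), (2 : ℤ) • (1 : Matrix (Fin n) (Fin n) ℤ), by
    show (Matrix.of fun i : Fin n => wt (i, true)) * ((2 : ℤ) • (1 : Matrix (Fin n) (Fin n) ℤ)) = (2 : ℤ) • (1 : Matrix (Fin n) (Fin n) ℤ)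
    rw [Matrix.mul_smul, Matrix.mul_one]
    exact congrArg _ (Matrix.ext fun i j => by simp [wt, one_apply, Pi.single_apply, eq_comm]), fun ⟨i, b⟩ => Or.inr ⟨i, by
      cases b
      · exact Or.inr (show wt (i, false) = -wt (i, true) by simp [wt, Pi.single_neg])
      · exact Or.inl rfl⟩⟩

theorem psp_of (hX : Lf X) (hD : DatX X) (h62 : ∀ (F : Type) [Field F] [Fintype F], Fintype.card F = 2 → Cov X 2 3 (PSp 3 F)) :
    For (RowX X) (Od CPsp) := by
  rintro l hl S _ _ _ - ⟨h2, F, _, _, m, hF, hm, hm2, ⟨e⟩⟩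
  refine RowX.of_equiv e ?_
  obtain ⟨p, hp⟩ := CharP.exists F
  have : Fact p.Prime := ⟨CharP.char_is_prime F p⟩
  obtain ⟨k, _, _, _, hk, e', he, f, hq⟩ := hasC p F
  have hlp : l ≠ p := fun h => hF (h ▸ CharP.cast_eq_zero F p)
  have := (datC m hk he).amb.finite_GF (GC m k)
  let π : GF (FC m k p e') (GC m k) →* PSp m F := (QuotientGroup.mk' _).comp (eqvC f hq).symm.toMonoidHom
  have h0 : Function.Surjective π := (QuotientGroup.mk'_surjective _).comp (eqvC f hq).symm.surjective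
  have h1 : π.ker = (Subgroup.center _).map (eqvC f hq).toMonoidHom := by
    rw [← MonoidHom.comap_ker, QuotientGroup.ker_mk', Subgroup.map_equiv_eq_comap_symm']
  have h3 : Nat.card π.ker = Nat.gcd 2 (Fintype.card F - 1) := by
    rw [h1, Subgroup.card_map_of_injective (eqvC f hq).injective, LieClassical.SympCenter.card_center (by omega)]
  have h4 : ¬ l ∣ Nat.card π.ker := by
    rw [h3]
    exact fun h => h2 ((Nat.prime_dvd_prime_iff_eq hl.out Nat.prime_two).1 (h.trans (Nat.gcd_dvd_left _ _)))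
  have h5 : ∀ M, IsPModular l M → BX X l M (GF (FC m k p e') (GC m k)) := fun M hM =>
    hD _ _ _ _ _ (natC hk he) (datC_qs hk he) (ntC he) (pi1C hk he) (fun s hs e => levC hk he (hs.odd_of_ne_two e)) h2 hlp hM
  by_cases h : m = 3 ∧ Fintype.card F = 2
  · obtain ⟨rfl, h⟩ := h
    have := Finite.of_surjective π h0
    refine row_of_cov (S2093.result h) fun n k1 _ k2 => ?_
    rcases (Nat.dvd_prime Nat.prime_two).1 k1 with rfl | rfl
    · exact cov_one hX fun M hM => bx_quot hX hM π h0 h4 (h5 M hM)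
    by_cases h3 : l = 3
    · subst h3
      exact h62 F h
    have h4 := H356.KillPSp.card (F := F) (m := 3) (by norm_num)
    rw [h] at h4
    have h5 : Nat.card (PSp 3 F) = 2 ^ 9 * (3 ^ 4 * (5 * 7)) := by
      simp only [Finset.prod_range_succ, Finset.prod_range_zero] at h4
      norm_num at h4 ⊢
      exact h4
    rw [h5] at k2
    have h7 : l ^ 3 ∣ 5 * 7 := ((Nat.coprime_primes hl.out Nat.prime_three).2 h3).pow 3 4 |>.dvd_of_dvd_mul_left
      ((((Nat.coprime_primes hl.out Nat.prime_two).2 h2).pow 3 9).dvd_of_dvd_mul_left k2)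
    have h8 := Nat.le_of_dvd (by norm_num) h7
    have h9 : l < 4 := lt_of_pow_lt_pow_left₀ 3 (by norm_num) (by omega)
    have := hl.out.two_le
    omega
  refine row_mult hX π h0 ?_ ?_ h4 (a := 0) (S2092.result rfl m hm hm2 h) ?_ h5
  · rw [h1]
    rintro _ ⟨z, hz, rfl⟩
    refine Subgroup.mem_center_iff.2 fun g => ?_
    obtain ⟨g, rfl⟩ := (eqvC f hq).surjective g
    rw [MulEquiv.coe_toMonoidHom, ← map_mul, ← map_mul, Subgroup.mem_center_iff.1 hz]
  · have h4 := S0269.result (F := F) m (by omega)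
    rw [commutator_def, ← Subgroup.map_top_of_surjective (eqvC f hq).toMonoidHom (eqvC f hq).surjective, ← Subgroup.map_commutator,
      ← commutator_def, h4]
  · rw [h3, pow_zero, mul_one, Nat.card_congr Multiplicative.toAdd, Nat.card_zmod]

end C

/-- **the symplectic groups, `l` odd** -/
theorem psp (h62 : ∀ (F : Type) [Field F] [Fintype F], Fintype.card F = 2 → Cov XP 2 3 (PSp 3 F)) : For RowP (Od CPsp) :=
  psp_of lfP datP h62

/-- **the orthogonal groups in odd dimension, `l` odd** -/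
theorem oodd : For RowP (Od COdd) := odd_of lfP datP

/-- **the orthogonal groups of plus type, `l` odd** -/
theorem oplus (h8 : ∀ (F : Type) [Field F] [Fintype F], Fintype.card F = 2 → Cov XP 2 3 (POmega F (quadFormPlus 4 F))) :
    For RowP (Od CPlus) := plus_of lfP datP h8

/-- **the orthogonal groups of minus type, `l` odd** -/
theorem ominus : For RowP (Od CMinus) := minus_of lfP datP

end Cfsg.Agent.BZ.Cl
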