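import Cfsg.Agent.BZ.L.Cl.Lin
import Cfsg.Agent.BZ.Lab.A

/-!
# BZ, classical groups, `l` odd: levels, the centre of a split Levi subgroup, the action on the weights (helper56)
-/

set_option autoImplicit false
set_option linter.unusedSectionVars false

namespace Cfsg.Agent.BZ.Cl

open Subgroup Matrix Cfsg.Agent.BZ.Lab

/-- the primes -/
structure Pr (c Q l r a n : ℕ) : Prop where
  lp : l.Prime
  l2 : l ≠ 2
  lQ : ¬ l ∣ Q
  lc : l.Coprime c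
  rp : r.Prime
  rQ : ¬ r ∣ Q
  rc : r.Coprime c
  big : 2 * n < r
  r2 : r ≠ 2
  a0 : 0 < a
  eo : Eo Q (l ^ a) r

variable {k : Type} [Field k] [IsAlgClosed k] {I : Type} [Fintype I] [DecidableEq I] {K : Type} [Group K] [Fintype K]
  {A : Type} [Group A] {c Q l r a : ℕ} {ρ : K →* GL I k} {h : GL I k}

theorem Pr.ppl {n : ℕ} (R : Pr c Q l r a n) : Pp Q (l ^ a) := ⟨l, a, R.lp, R.l2, R.lQ, R.a0, rfl⟩

theorem Pr.ppr {n : ℕ} (R : Pr c Q l r a n) : Pp Q r := ⟨r, 1, R.rp, R.r2, R.rQ, one_pos, (pow_one r).symm⟩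

/-- an eigenvalue of order `t` whose eigenspace is not a direct summand -/
def Lvl (c Q : ℕ) (ρ : K →* GL I k) (x : K) (t : ℕ) : Prop :=
  ∃ (h : GL I k) (w : I → zpowers x →* kˣ), Dg ρ (zpowers x).subtype h w ∧ Fn c Q ρ h w ∧
    ∃ g i j, w i ≠ w j ∧ mt ρ h g i j ≠ 0 ∧ (orderOf (w i) = t ∨ orderOf (w j) = t)

theorem Fo.sep (C : Fo c Q ρ) [Finite A] {s t : ℕ} (hs : s.Prime) (hQ : ¬ s ∣ Q) (hA : IsPGroup s A) {w : I → A →* kˣ}
    (hF : Fn c Q ρ h w) (ω₀ : A →* kˣ) (h1 : Eo Q (orderOf ω₀) t) (h2 : Pp Q (orderOf ω₀)) (h3 : Pp Q t) (h4 : t.Coprime c) :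
    ∃ (u : K) (f : (A →* kˣ) → kˣ) (ζ : kˣ), orderOf ζ = t ∧ u ^ t = 1 ∧ (mt ρ h u = diagonal fun i => (f (w i) : k)) ∧ f ω₀ = ζ ∧
      (∀ ω, ω ≠ ω₀ → f ω ≠ ζ) ∧ ∀ ω, ω ∉ zpowers ω₀ → f ω = 1 := by
  obtain ⟨ζ, rfl⟩ := C.exists_prim h3
  obtain ⟨f, k1, k2, k3, k4, k5, k6⟩ := exists_f (hom_per hs hQ hA) ω₀ ζ h1 h2 h3
  obtain ⟨u, k7, k8⟩ := C.fn' hF h4 k1 k2 k3
  exact ⟨u, f, ζ, rfl, k7, k8, k4, k5, k6⟩

theorem comm_zp {g x : K} (e : Commute g x) (y : zpowers x) : Commute g ((zpowers x).subtype y) := by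
  obtain ⟨_, n, rfl⟩ := y
  exact e.zpow_right n

/-- a level gives a non-central `r`-element in the centre of the centraliser -/
theorem Fo.ex_y (C : Fo c Q ρ) {n : ℕ} (R : Pr c Q l r a n) {x : K} {b : ℕ} (hx : x ^ l ^ b = 1) (hL : Lvl c Q ρ x (l ^ a)) :
    ∃ y : K, y ^ r = 1 ∧ y ∉ center K ∧ ∀ g, Commute g x → Commute g y := by
  obtain ⟨h, w, hw, hF, g, i, j, h1, h2, h3⟩ := hL
  obtain ⟨u, f, k1, k2, k3⟩ : ∃ (u : K) (f : (zpowers x →* kˣ) → kˣ), u ^ r = 1 ∧ (mt ρ h u = diagonal fun i => (f (w i) : k)) ∧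
      f (w i) ≠ f (w j) := by
    rcases h3 with e | e
    · obtain ⟨u, f, ζ, -, k1, k2, k3, k4, -⟩ := C.sep R.lp R.lQ (zp_p hx) hF (w i) (e ▸ R.eo) (e ▸ R.ppl) R.ppr R.rc
      exact ⟨u, f, k1, k2, by rw [k3]; exact (k4 _ h1.symm).symm⟩
    · obtain ⟨u, f, ζ, -, k1, k2, k3, k4, -⟩ := C.sep R.lp R.lQ (zp_p hx) hF (w j) (e ▸ R.eo) (e ▸ R.ppl) R.ppr R.rc
      exact ⟨u, f, k1, k2, by rw [k3]; exact k4 _ h1⟩
  refine ⟨u, k1, fun e => k3 (Units.ext ?_), fun g' e => C.comm_fn hw k2 R.rc k1 (comm_zp e)⟩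
  have := congrArg (mt ρ h) (mem_center_iff.1 e g).symm
  rw [map_mul, map_mul, k2] at this
  exact dg_comm.1 this i j h2

/-- a non-central element has a level -/
theorem Fo.lvl (C : Fo c Q ρ) (hl : l.Prime) (hQ : ¬ l ∣ Q) (hc : l.Coprime c) {x : K} {b : ℕ} (hx : x ^ l ^ b = 1)
    (hz : x ∉ center K) : ∃ a, 0 < a ∧ Lvl c Q ρ x (l ^ a) := by
  obtain ⟨h, w, hw, -, hF⟩ := C.fn l hl hQ hc _ (zpowers x).subtype (zp_p hx) zp_comm
  obtain ⟨g, i, j, h1, h2⟩ : ∃ g i j, w i ≠ w j ∧ mt ρ h g i j ≠ 0 := by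
    by_contra! e
    refine hz (mem_center_iff.2 fun g => (C.comm (h := h) ?_ (hc.pow_left b) hx).eq)
    have := hw ⟨x, mem_zpowers x⟩
    rw [coe_subtype] at this
    rw [this]
    exact dg_comm.2 fun i j e1 => by rw [not_not.1 fun e2 => e1 (e g i j e2)]
  by_cases e : w i = 1
  · obtain ⟨a, k1, k2⟩ := pp_ord hl (zp_p hx) (fun e1 => h1 (e.trans e1.symm) : w j ≠ 1)
    exact ⟨a, k1, h, w, hw, hF, g, i, j, h1, h2, Or.inr k2⟩
  · obtain ⟨a, k1, k2⟩ := pp_ord hl (zp_p hx) e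
    exact ⟨a, k1, h, w, hw, hF, g, i, j, h1, h2, Or.inl k2⟩

theorem Lvl.lt {x : K} (hl : l.Prime) (hL : Lvl c Q ρ x (l ^ a)) : a < Nat.card K := by
  obtain ⟨h, w, -, -, g, i, j, -, -, h3⟩ := hL
  have key : ∀ ω : zpowers x →* kˣ, orderOf ω = l ^ a → a < Nat.card K := fun ω e => by
    have h1 : orderOf ω ∣ Nat.card K := by
      rw [ord_gen]
      exact (orderOf_map_dvd ω _).trans ((_root_.orderOf_dvd_natCard _).trans (card_subgroup_dvd_card _))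
    exact (Nat.lt_pow_self hl.one_lt).trans_le (e ▸ Nat.le_of_dvd Nat.card_pos h1)
  exact h3.elim (key _) (key _)

/-! ### the centre of the centraliser of an `r`-subgroup -/

/-- the `l`-elements of the centre of the centraliser -/
def Zl (l : ℕ) (P : Subgroup K) : Subgroup K := (Zs l (centralizer (P : Set K))).map (centralizer (P : Set K)).subtype

variable {P : Subgroup K}

theorem zl_p : IsPGroup l (Zl l P) :=
  have := Fintype.ofFinite (centralizer (P : Set K))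
  zs_p.map _

theorem zl_le : Zl l P ≤ centralizer (P : Set K) := map_subtype_le _

theorem le_cen_zl : centralizer (P : Set K) ≤ centralizer (Zl l P : Set K) := by
  rintro y hy _ ⟨z, hz, rfl⟩
  exact congrArg Subtype.val (mem_center_iff.1 hz.1 ⟨y, hy⟩).symm

theorem nor_zl : normalizer (P : Set K) ≤ normalizer (Zl l P : Set K) := fun g hg => by
  have := Fintype.ofFinite (centralizer (P : Set K))
  obtain ⟨σ, hσ⟩ := exists_aut (subtype_injective _) (range_subtype _) hg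
  refine mem_normalizer_iff.2 fun y => ⟨?_, ?_⟩
  · rintro ⟨z, hz, rfl⟩
    exact ⟨σ z, zs_aut σ hz, hσ z⟩
  · rintro ⟨z, hz, e⟩
    refine ⟨σ.symm z, zs_aut σ.symm hz, ?_⟩
    have := hσ (σ.symm z)
    rw [MulEquiv.apply_symm_apply, e] at this
    simpa using this.symm

theorem mem_zl {t : K} {b : ℕ} (h0 : P ≤ centralizer (P : Set K)) (h1 : ∀ g ∈ centralizer (P : Set K), Commute g t) (h2 : t ^ l ^ b = 1) :
    t ∈ Zl l P :=
  ⟨⟨t, fun y hy => (h1 y (h0 hy)).eq⟩, ⟨mem_center_iff.2 fun g => Subtype.ext (h1 g g.2).eq, b, Subtype.ext h2⟩, rfl⟩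

/-- the data of an `r`-subgroup -/
structure Wt (c Q r : ℕ) (ρ : K →* GL I k) (P : Subgroup K) (h : GL I k) (w : I → P →* kˣ) : Prop where
  pg : IsPGroup r P
  ab : P ≤ centralizer (P : Set K)
  dg : Dg ρ P.subtype h w
  cl : ∀ i, ∃ j, w j = w i ^ Q ^ 2
  fn : Fn c Q ρ h w

theorem Fo.exists_wt (C : Fo c Q ρ) {n : ℕ} (R : Pr c Q l r a n) (hP : IsPGroup r P) (h0 : P ≤ centralizer (P : Set K)) :
    ∃ h w, Wt c Q r ρ P h w := by
  obtain ⟨h, w, k1, k2, k3⟩ := C.fn r R.rp R.rQ R.rc P P.subtype hP fun x y => Subtype.ext (h0 y.2 x x.2)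
  exact ⟨h, w, hP, h0, k1, k2, k3⟩

theorem dvd_of_per {Γ : Type} [Group Γ] {ω : Γ} {s : ℕ} (e : ω ^ Q ^ s = ω) : (orderOf ω : ℤ) ∣ (Q : ℤ) ^ s - 1 := by
  rw [orderOf_dvd_sub_iff_zpow_eq_zpow, ← Nat.cast_pow, zpow_natCast, e, zpow_one]

variable {w : I → P →* kˣ} (C : Fo c Q ρ) (R : Pr c Q l r a (Fintype.card I)) (W : Wt c Q r ρ P h w)
include C R W

theorem exists_t {i : I} (hi : w i ≠ 1) : ∃ t ∈ Zl l P, ∃ (f : (P →* kˣ) → kˣ) (ζ : kˣ), orderOf ζ = l ^ a ∧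
    (mt ρ h t = diagonal fun i => (f (w i) : k)) ∧ f (w i) = ζ ∧ (∀ ω, ω ≠ w i → f ω ≠ ζ) ∧ ∀ ω, ω ∉ zpowers (w i) → f ω = 1 := by
  obtain ⟨b, h1, h2⟩ := pp_ord R.rp W.pg hi
  obtain ⟨s, h3, h4, h5⟩ := per (Γ := P →* kˣ) (Q := Q) (w := w) (hom_per R.rp R.rQ W.pg) W.cl i
  have h6 := dvd_of_per h5
  rw [h2] at h6
  obtain ⟨u, f, ζ, k1, k2, k3, k4⟩ := C.sep R.rp R.rQ W.pg W.fn (w i)
    (h2 ▸ (eo_pow R.rp h1 h3 (h4.trans_lt R.big) h6).symm.trans R.eo.symm) (h2 ▸ ⟨r, b, R.rp, R.r2, R.rQ, h1, rfl⟩) R.ppl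
    (R.lc.pow_left a)
  exact ⟨u, mem_zl W.ab (fun g hg => C.comm_fn W.dg k3 (R.lc.pow_left a) k2 fun y => (hg y y.2).symm) k2, f, ζ, k1, k3, k4⟩

omit R in
theorem mem_cen (hr : r.Coprime c) {g : K} (e : ∀ i j, mt ρ h g i j ≠ 0 → w i = w j) : g ∈ centralizer (P : Set K) := fun y hy => by
  obtain ⟨b, hb⟩ := W.pg ⟨y, hy⟩
  refine (C.comm (h := h) ?_ (hr.pow_left b) (congrArg Subtype.val hb)).symm.eq
  have := W.dg ⟨y, hy⟩
  rw [coe_subtype] at this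
  rw [this]
  exact dg_comm.2 fun i j e1 => by rw [e i j e1]

/-- **the split Levi subgroup is the centraliser of the `l`-part of its centre** -/
theorem cen_zl_le : centralizer (Zl l P : Set K) ≤ centralizer (P : Set K) := fun g hg => mem_cen C W R.rc fun i j e => by
  have key : ∀ t ∈ Zl l P, ∀ f : (P →* kˣ) → kˣ, (mt ρ h t = diagonal fun i => (f (w i) : k)) → f (w i) = f (w j) := fun t ht f hf => by
    have := congrArg (mt ρ h) (hg t ht)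
    rw [map_mul, map_mul, hf] at this
    exact Units.ext (dg_comm.1 this i j e)
  by_contra e1
  by_cases e2 : w i = 1
  · obtain ⟨t, ht, f, ζ, -, k1, k2, k3, -⟩ := exists_t C R W (fun e3 => e1 (e2.trans e3.symm) : w j ≠ 1)
    exact k3 _ e1 ((key t ht f k1).trans k2)
  · obtain ⟨t, ht, f, ζ, -, k1, k2, k3, -⟩ := exists_t C R W e2
    exact k3 _ (Ne.symm e1) ((key t ht f k1).symm.trans k2)

end Cfsg.Agent.BZ.Cl
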