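import Cfsg.Agent.BZ.L.Cl.Num

/-!
# BZ, classical groups, `l` odd: the class of linear groups (helper56)

`Fo c Q ρ` : the kernel of `ρ : K →* GL I k` is a central `c`-group, and for every abelian subgroup of prime power order the functions
`f` of the weights with `f (ω ^ Q) = f ω ^ Q`, `f ω⁻¹ = (f ω)⁻¹` are realised by elements of `K`.  `Fo.sub` : centralisers.
-/

set_option autoImplicit false
set_option linter.unusedSectionVars false

namespace Cfsg.Agent.BZ.Cl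

open Subgroup Matrix

variable {k : Type} [Field k] {I : Type} [Fintype I] [DecidableEq I] {K : Type} [Group K] {A : Type} [Group A]

/-- the matrix in the basis `h` -/
def mt (ρ : K →* GL I k) (h : GL I k) : K →* Matrix I I k :=
  (Units.coeHom _).comp ((MulAut.conj h⁻¹).toMonoidHom.comp ρ)

/-- the weights -/
def Dg (ρ : K →* GL I k) (ι : A →* K) (h : GL I k) (w : I → A →* kˣ) : Prop :=
  ∀ a, mt ρ h (ι a) = diagonal fun i => (w i a : k)

/-- the functions of the weights are realised -/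
def Fn (c Q : ℕ) (ρ : K →* GL I k) (h : GL I k) (w : I → A →* kˣ) : Prop :=
  ∀ (t : ℕ) (f : (A →* kˣ) → kˣ), t.Coprime c → (∀ ω, f (ω ^ Q) = f ω ^ Q) → (∀ ω, f ω⁻¹ = (f ω)⁻¹) → (∀ ω, f ω ^ t = 1) →
    ∃ g, mt ρ h g = diagonal fun i => (f (w i) : k)

/-- **the class** -/
structure Fo (c Q : ℕ) (ρ : K →* GL I k) : Prop where
  ch : (Q : k) = 0
  ker : ∀ g, ρ g = 1 → g ∈ center K ∧ ∃ j, g ^ c ^ j = 1
  fn : ∀ s : ℕ, s.Prime → ¬ s ∣ Q → s.Coprime c → ∀ (A : Type) [Group A] [Finite A] (ι : A →* K), IsPGroup s A →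
    (∀ a b : A, a * b = b * a) → ∃ (h : GL I k) (w : I → A →* kˣ), Dg ρ ι h w ∧ (∀ i, ∃ j, w j = w i ^ Q ^ 2) ∧ Fn c Q ρ h w

variable {c Q : ℕ} {ρ : K →* GL I k} {h : GL I k} {ι : A →* K} {w : I → A →* kˣ}

theorem mt_inj {a b : K} (e : mt ρ h a = mt ρ h b) : ρ a = ρ b := (MulAut.conj h⁻¹).injective (Units.ext e)

theorem dg_comm {B : Matrix I I k} {d d' : I → k} : diagonal d * B = B * diagonal d' ↔ ∀ i j, B i j ≠ 0 → d i = d' j := by
  refine ⟨fun e i j hB => ?_, fun e => Matrix.ext fun i j => ?_⟩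
  · have := congrFun (congrFun e i) j
    rw [diagonal_mul, mul_diagonal, mul_comm] at this
    exact mul_left_cancel₀ hB this
  · rw [diagonal_mul, mul_diagonal, mul_comm]
    by_cases hB : B i j = 0
    · rw [hB, zero_mul, zero_mul]
    · rw [e i j hB]

theorem col_ne (g : K) (j : I) : ∃ i, mt ρ h g i j ≠ 0 := by
  by_contra! e
  have := congrFun (congrFun (map_mul (mt ρ h) g⁻¹ g) j) j
  rw [inv_mul_cancel, map_one, one_apply_eq, mul_apply] at this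
  simp [e] at this

theorem vec_ne (g : K) {v : I → k} (hv : v ≠ 0) : mt ρ h g *ᵥ v ≠ 0 := fun e => hv (by
  have := congrArg (mt ρ h g⁻¹ *ᵥ ·) e
  simpa only [mulVec_mulVec, ← map_mul, inv_mul_cancel, map_one, one_mulVec, mulVec_zero] using this)

theorem Dg.wt (hw : Dg ρ ι h w) {g : K} {a b : A} (e : ι a * g = g * ι b) {i j : I} (hg : mt ρ h g i j ≠ 0) : w i a = w j b := by
  have := congrArg (mt ρ h) e
  rw [map_mul, map_mul, hw, hw] at this
  exact Units.ext (dg_comm.1 this i j hg)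

theorem Dg.wt' (hw : Dg ρ ι h w) {g : K} (e : ∀ a, Commute g (ι a)) {i j : I} (hg : mt ρ h g i j ≠ 0) : w i = w j :=
  MonoidHom.ext fun a => hw.wt (e a).symm.eq hg

namespace Fo

variable (C : Fo c Q ρ)
include C

theorem eq_one {g : K} {t : ℕ} (hg : ρ g = 1) (ht : t.Coprime c) (e : g ^ t = 1) : g = 1 := by
  obtain ⟨-, j, hj⟩ := C.ker g hg
  exact orderOf_eq_one_iff.1 (Nat.eq_one_of_dvd_coprimes (ht.pow_right j) (orderOf_dvd_of_pow_eq_one e) (orderOf_dvd_of_pow_eq_one hj))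

theorem comm {g y : K} {t : ℕ} (e : mt ρ h y * mt ρ h g = mt ρ h g * mt ρ h y) (ht : t.Coprime c) (hy : y ^ t = 1) : Commute g y := by
  rw [← map_mul, ← map_mul] at e
  have h1 : ρ (g * y * g⁻¹ * y⁻¹) = 1 := by
    rw [map_mul, map_mul, ← mt_inj e, ← map_mul, ← map_mul, mul_inv_cancel_right, mul_inv_cancel, map_one]
  have h2 : (g * y * g⁻¹ * y⁻¹ * y) ^ t = 1 := by rw [inv_mul_cancel_right, conj_pow, hy, mul_one, mul_inv_cancel]
  rw [Commute.mul_pow (mem_center_iff.1 (C.ker _ h1).1 y).symm, hy, mul_one] at h2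
  exact commutatorElement_eq_one_iff_commute.1 (C.eq_one h1 ht h2)

/-- a function of the weights commutes with the centraliser -/
theorem comm_fn (hw : Dg ρ ι h w) {f : (A →* kˣ) → kˣ} {u g : K} {t : ℕ} (hu : mt ρ h u = diagonal fun i => (f (w i) : k))
    (ht : t.Coprime c) (hy : u ^ t = 1) (e : ∀ a, Commute g (ι a)) : Commute g u :=
  C.comm (h := h) (by rw [hu]; exact dg_comm.2 fun i j hg => by rw [hw.wt' e hg]) ht hy

theorem fn' (hF : Fn c Q ρ h w) {t : ℕ} {f : (A →* kˣ) → kˣ} (ht : t.Coprime c) (h1 : ∀ ω, f (ω ^ Q) = f ω ^ Q)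
    (h2 : ∀ ω, f ω⁻¹ = (f ω)⁻¹) (h3 : ∀ ω, f ω ^ t = 1) : ∃ g, g ^ t = 1 ∧ mt ρ h g = diagonal fun i => (f (w i) : k) := by
  obtain ⟨g, hg⟩ := hF t f ht h1 h2 h3
  have h4 : ρ (g ^ t) = 1 := by
    refine (mt_inj (h := h) (b := 1) ?_).trans (map_one ρ)
    rw [map_pow, hg, diagonal_pow, map_one, ← diagonal_one]
    exact congrArg diagonal (funext fun i => by rw [Pi.pow_apply, ← Units.val_pow_eq_pow_val, h3, Units.val_one])
  obtain ⟨-, j, hj⟩ := C.ker _ h4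
  obtain ⟨u, k1, k2⟩ := Nat.chineseRemainder (ht.pow_right j) 1 0
  obtain ⟨v, rfl⟩ := (Nat.modEq_zero_iff_dvd).1 k2
  refine ⟨g ^ (c ^ j * v), by rw [← pow_mul, mul_comm, ← mul_assoc, pow_mul, pow_mul, hj, one_pow], ?_⟩
  rw [map_pow, hg, diagonal_pow]
  refine congrArg diagonal (funext fun i => ?_)
  rw [Pi.pow_apply, ← Units.val_pow_eq_pow_val, pow_eq_pow_iff_modEq.2 (k1.of_dvd (orderOf_dvd_of_pow_eq_one (h3 _))), pow_one]

/-- centralisers -/
theorem sub {P : Subgroup K} {t : ℕ} (ht : t.Coprime c) (hP : ∀ y ∈ P, ∃ j, y ^ t ^ j = 1) :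
    Fo c Q (ρ.comp (centralizer (P : Set K)).subtype) where
  ch := C.ch
  ker g hg := ⟨mem_center_iff.2 fun x => Subtype.ext (mem_center_iff.1 (C.ker g hg).1 x),
    (C.ker g hg).2.imp fun _ e => Subtype.ext e⟩
  fn s hs h1 h2 A _ _ ι hA hc := by
    obtain ⟨h, w, k1, k2, k3⟩ := C.fn s hs h1 h2 A ((centralizer (P : Set K)).subtype.comp ι) hA hc
    refine ⟨h, w, k1, k2, fun t' f e1 e2 e3 e4 => ?_⟩
    obtain ⟨g, -, hg⟩ := C.fn' k3 e1 e2 e3 e4
    refine ⟨⟨g, fun y hy => ?_⟩, hg⟩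
    obtain ⟨j, hj⟩ := hP y hy
    refine (C.comm (h := h) ?_ (ht.pow_left j) hj).symm.eq
    rw [hg]
    exact (dg_comm.2 fun i j e => by rw [k1.wt' (fun a => (ι a).2 y hy) e]).symm

theorem exists_prim [IsAlgClosed k] {t : ℕ} (ht : Pp Q t) : ∃ ζ : kˣ, orderOf ζ = t := by
  have h0 : (t : k) ≠ 0 := fun e => by
    obtain ⟨a, b, e1⟩ := ht.cop 1
    have := congrArg (Int.cast (R := k)) e1
    simp [e, C.ch] at this
  have : NeZero (t : k) := ⟨h0⟩
  have h1 : t ≠ 0 := fun e => h0 (by rw [e, Nat.cast_zero])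
  obtain ⟨ζ, h⟩ := HasEnoughRootsOfUnity.exists_primitiveRoot k t
  exact ⟨(h.isUnit h1).unit, (h.isUnit_unit h1).eq_orderOf.symm⟩

end Fo

/-! ### characters of groups of prime power order -/

theorem hom_ord [Finite A] {s : ℕ} (hs : s.Prime) (hA : IsPGroup s A) (ω : A →* kˣ) : ∃ b, orderOf ω = s ^ b := by
  have : Fact s.Prime := ⟨hs⟩
  obtain ⟨n, hn⟩ := IsPGroup.iff_card.1 hA
  have h1 : ω ^ s ^ n = 1 := MonoidHom.ext fun a => by rw [MonoidHom.pow_apply, ← map_pow, ← hn, pow_card_eq_one', map_one]; rfl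
  exact ((Nat.dvd_prime_pow hs).1 (orderOf_dvd_of_pow_eq_one h1)).imp fun _ e => e.2

theorem per_of {Γ : Type} [Group Γ] {s b : ℕ} (hs : s.Prime) (hQ : ¬ s ∣ Q) {ω : Γ} (hb : orderOf ω = s ^ b) :
    ∃ N, 0 < N ∧ ω ^ Q ^ N = ω := by
  refine ⟨(s ^ b).totient, Nat.totient_pos.2 (pow_pos hs.pos b), ?_⟩
  have := Nat.ModEq.pow_totient (((Nat.Prime.coprime_iff_not_dvd hs).2 hQ).symm.pow_right b)
  rw [← hb] at this
  rw [← hb, pow_eq_pow_iff_modEq.2 this, pow_one]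

theorem hom_per [Finite A] {s : ℕ} (hs : s.Prime) (hQ : ¬ s ∣ Q) (hA : IsPGroup s A) (ω : A →* kˣ) : ∃ N, 0 < N ∧ ω ^ Q ^ N = ω :=
  (hom_ord hs hA ω).elim fun _ hb => per_of hs hQ hb

theorem pp_ord [Finite A] {s : ℕ} (hs : s.Prime) (hA : IsPGroup s A) {ω : A →* kˣ} (h1 : ω ≠ 1) :
    ∃ b, 0 < b ∧ orderOf ω = s ^ b := by
  obtain ⟨b, hb⟩ := hom_ord hs hA ω
  refine ⟨b, Nat.pos_of_ne_zero fun e => h1 ?_, hb⟩
  rwa [e, pow_zero, orderOf_eq_one_iff] at hb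

theorem per {Γ : Type} [CommGroup Γ] (hΓ : ∀ ω : Γ, ∃ N, 0 < N ∧ ω ^ Q ^ N = ω) {w : I → Γ} (hw : ∀ i, ∃ j, w j = w i ^ Q ^ 2) (i : I) :
    ∃ s, 0 < s ∧ s ≤ 2 * Fintype.card I ∧ w i ^ Q ^ s = w i := by
  choose σ hσ using hw
  have h1 : ∀ n, w (σ^[n] i) = w i ^ Q ^ (2 * n) := fun n => by
    induction n with
    | zero => simp
    | succ n ih => rw [Function.iterate_succ_apply', hσ, ih, ← pow_mul, ← pow_add, mul_add]
  have h2 : ∀ (n : ℕ) (x y : Γ), x ^ Q ^ n = y ^ Q ^ n → x = y := fun n => by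
    induction n with
    | zero => simp
    | succ n ih =>
      intro x y e
      rw [pow_succ', pow_mul, pow_mul] at e
      obtain ⟨N, hN, e1⟩ := hΓ (x / y)
      obtain ⟨N, rfl⟩ := Nat.exists_eq_add_of_le' hN
      rw [pow_succ', pow_mul, div_pow, ih _ _ e, div_self', one_pow] at e1
      exact div_eq_one.1 e1.symm
  have key : ∀ a b : ℕ, a < b → b ≤ Fintype.card I → σ^[a] i = σ^[b] i → ∃ s, 0 < s ∧ s ≤ 2 * Fintype.card I ∧ w i ^ Q ^ s = w i :=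
    fun a b h3 h4 e => ⟨2 * (b - a), by omega, by omega, h2 (2 * a) _ _ (by
      rw [← pow_mul, ← pow_add, ← h1, e, h1]
      congr 2
      omega)⟩
  obtain ⟨a, b, h3, e⟩ := Fintype.exists_ne_map_eq_of_card_lt (fun n : Fin (Fintype.card I + 1) => σ^[n] i) (by simp)
  rcases lt_or_gt_of_ne (Fin.val_ne_of_ne h3) with h4 | h4
  · exact key a b h4 (Nat.lt_succ_iff.1 b.2) e
  · exact key b a h4 (Nat.lt_succ_iff.1 a.2) e.symm

theorem hom_ext_gen {x : K} {ω ω' : zpowers x →* kˣ} (e : ω ⟨x, mem_zpowers x⟩ = ω' ⟨x, mem_zpowers x⟩) : ω = ω' :=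
  MonoidHom.ext fun ⟨_, n, hn⟩ => by
    subst hn
    have : (⟨x ^ n, n, rfl⟩ : zpowers x) = ⟨x, mem_zpowers x⟩ ^ n := rfl
    rw [this, map_zpow, map_zpow, e]

theorem ord_gen {x : K} (ω : zpowers x →* kˣ) : orderOf ω = orderOf (ω ⟨x, mem_zpowers x⟩) :=
  orderOf_eq_orderOf_iff.2 fun _ => ⟨fun e => DFunLike.congr_fun e ⟨x, mem_zpowers x⟩, fun e => hom_ext_gen e⟩

theorem zp_comm {x : K} (a b : zpowers x) : a * b = b * a := mul_comm' a b

theorem zp_p {x : K} {s a : ℕ} (hx : x ^ s ^ a = 1) : IsPGroup s (zpowers x) := by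
  rintro ⟨_, n, rfl⟩
  refine ⟨a, Subtype.ext ?_⟩
  show (x ^ n) ^ s ^ a = 1
  rw [← zpow_natCast, ← _root_.zpow_mul, mul_comm, _root_.zpow_mul, zpow_natCast, hx, _root_.one_zpow]

end Cfsg.Agent.BZ.Cl
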