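import Cfsg.Agent.BZ.L.Cl.Nd
import Cfsg.Agent.BZ.Lab.Main
import Cfsg.Agent.BZ.Lab.BC
import Cfsg.Agent.BZ.Lab.Cur
import Cfsg.Agent.BZ.Lab.Start
import Cfsg.Agent.BZ.Lab.Def
import Cfsg.Agent.BZ.Lab.W
import Cfsg.Agent.BZ.Lab.Orb
import Cfsg.Agent.BZ.Lab.St
import Cfsg.Agent.BZ.Lab.Up
import Cfsg.Agent.BZ.Lab.Uf
import Cfsg.Agent.BZ.Lab.Cor
import Cfsg.Agent.TID.Red.Eqv

/-!
# BZ, classical groups, `l` odd: the end game (helper56)

`main` : `K` in the class `Fo` with a frame; a stable block with all heights zero has abelian defect groups; `main_fix` : the same for the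
group of fixed points.
-/

set_option autoImplicit false
set_option linter.unusedSectionVars false

namespace Cfsg.Agent.BZ.Cl

open Cfsg Subgroup Cfsg.Agent.BZ.Lab Cfsg.Agent.KM

theorem boxMain : BoxMain :=
  boxMain_of boxSt boxUp boxUf (boxCur_of boxSt (boxSec_of boxSt boxUp)) boxOrb
    (boxBC_of boxSt boxUp boxUf (boxSec_of boxSt boxUp) boxOrb) (boxStart_of boxSt boxUp) (boxDef_of boxUp)

theorem boxW : BoxW := boxW_of boxSt

theorem ab_conj {K : Type} [Group K] {D : Subgroup K} (x : K) (h : BK.Ab (D.map (MulAut.conj x).toMonoidHom)) : BK.Ab D :=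
  fun a ha b hb => (MulAut.conj x).injective (by rw [map_mul, map_mul]; exact h _ ⟨a, ha, rfl⟩ _ ⟨b, hb, rfl⟩)

/-- the numbers -/
structure Nm (c q l m n : ℕ) : Prop where
  q2 : 2 ≤ q
  lp : l.Prime
  l2 : l ≠ 2
  lq : ¬ l ∣ q
  lc : l.Coprime c
  mp : m.Prime
  lm : l < m
  big : 2 * n < m
  rc : ∀ r a : ℕ, r.Prime → r ≠ 2 → 0 < a → Eo (q ^ m) (l ^ a) r → r.Coprime c

theorem Nm.lQ {c q l m n : ℕ} (h : Nm c q l m n) : ¬ l ∣ q ^ m := fun e => h.lq (h.lp.dvd_of_dvd_pow e)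

theorem Nm.pr {c q l m n a : ℕ} (h : Nm c q l m n) (ha : 0 < a) : ∃ r, m < r ∧ Pr c (q ^ m) l r a n := by
  have h3 : 3 < m := by
    have := h.lp.two_le
    have := h.l2
    have := h.lm
    omega
  obtain ⟨r, k1, k2, k3, k4⟩ := exists_r h.q2 h.mp h3 ⟨l, a, h.lp, h.l2, h.lQ, ha, rfl⟩
  exact ⟨r, k2, h.lp, h.l2, h.lQ, h.lc, k1, k3, h.rc r a k1 (by omega) ha k4, h.big.trans k2, by omega, ha, k4⟩

variable {k : Type} [Field k] [IsAlgClosed k] {I : Type} [Fintype I] [DecidableEq I] {c q l m n N : ℕ} {M : Ideal AlgInt}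

/-- **the end game** -/
theorem main (hN : Nm c q l m (Fintype.card I)) (hM : IsPModular l M) (s : ℕ) : ∀ (K : Type) [Group K] [Fintype K] (α : MulAut K)
    (ρ : K →* GL I k), Nat.card K ≤ s → (∀ r : ℕ, r.Prime → m < r → Fr l r m n N K α) → Fo c (q ^ m) ρ →
    ∀ (B : Set (IrrCharacter K)) (D : Subgroup K), IsPBlock M B → StB α B → IsDefectGroup l M B D → StS α D → HZr l ⊥ B → BK.Ab D := by
  classical
  have : Fact l.Prime := ⟨hN.lp⟩
  induction s with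
  | zero => exact fun K _ _ _ _ h => absurd (Nat.card_pos (α := K)) (by omega)
  | succ s ih =>
  intro K _ _ α ρ hs hF C B D hB hBs hD hDs hZ
  by_contra hab
  have pg : ∀ {E : Subgroup K}, IsDefectGroup l M B E → IsPGroup l E := fun h => Blocks.Basic.isPGroup_of_isDefectGroup h
  let S : ℕ → Prop := fun a => 0 < a ∧ ∃ (x : K) (E : Subgroup K), IsDefectGroup l M B E ∧ x ∈ E ∧ Lvl c (q ^ m) ρ x (l ^ a)
  have hS : ∀ b, S b → b ≤ Nat.card K := fun b ⟨_, _, _, _, _, h⟩ => (h.lt hN.lp).le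
  obtain ⟨a₀, h₀⟩ : ∃ a, S a := by
    obtain ⟨x, hx, hz⟩ : ∃ x ∈ D, x ∉ center K := by
      by_contra! e
      exact hab fun x _ y hy => mem_center_iff.1 (e y hy) x
    obtain ⟨b, hb⟩ := pg hD ⟨x, hx⟩
    obtain ⟨a, h1, h2⟩ := C.lvl hN.lp hN.lQ hN.lc (congrArg Subtype.val hb) hz
    exact ⟨a, h1, x, D, hD, hx, h2⟩
  obtain ⟨a, ⟨ha, x, E, hE, hx, hL⟩, hmax⟩ : ∃ a, S a ∧ ∀ b, S b → b ≤ a :=
    ⟨_, Nat.findGreatest_spec (hS a₀ h₀) h₀, fun b hb => Nat.le_findGreatest (hS b hb) hb⟩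
  obtain ⟨r, hr, R⟩ := hN.pr ha
  have F := hF r R.rp hr
  have : Fact r.Prime := ⟨R.rp⟩
  obtain ⟨P, b, D', D₁, -, o⟩ := boxMain F hM B D ⊥ ⊥ hB hBs hD hDs bot_le IsPGroup.of_bot (fun g => by simp) bot_le
    (fun y _ _ => by simp [mem_centralizer_iff]) fun P' _ hP' _ => by
      obtain ⟨h, w, W⟩ := C.exists_wt R hP' (F.bg.ab' hP')
      exact ⟨Zl l P', zl_p, le_cen_zl, fun y hy _ => cen_zl_le C R W hy⟩
  obtain ⟨h, w, W⟩ := C.exists_wt R o.rp (F.bg.ab' o.rp)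
  have hZD : Zl l P ≤ D' := by
    rintro _ ⟨z, hz, rfl⟩
    exact cen_le_defect hM o.blk o.dfb zs_le zs_p hz
  have h1 : D' ≤ D₁ := o.inf ▸ inf_le_left
  obtain rfl : D' = D₁ := by
    by_contra e
    obtain ⟨u, k1, k2, k3, k4, v, k5, k6⟩ := o.nrm e
    have k7 : v ∈ centralizer (P : Set K) := cen_zl_le C R W (centralizer_le hZD k5)
    by_cases k8 : u ∈ Dl P w
    · have k9 : v ∈ Dl P w := ⟨⟨v, centralizer_le_normalizer _ k7⟩, mem_iInf.2 fun j => by
        rw [mem_Sw, ac_cen k7]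
        exact mem_zpowers _, rfl⟩
      have k10 : (u * v) ^ l ^ 1 ∈ centralizer (Zl l P : Set K) := by
        have e1 : ∀ j : ℕ, (u ^ j)⁻¹ * (u * v) ^ j ∈ centralizer (P : Set K) := fun j => by
          induction j with
          | zero => simp
          | succ j ih =>
            rw [show (u ^ (j + 1))⁻¹ * (u * v) ^ (j + 1) = u⁻¹ * ((u ^ j)⁻¹ * (u * v) ^ j) * u⁻¹⁻¹ * v by
              rw [pow_succ, pow_succ]; group]
            exact mul_mem ((normal_subgroupOf_iff (centralizer_le_normalizer _)).1 inferInstance _ _ ih (inv_mem (o.nor k4))) k7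
        have e2 := mul_mem (o.le k3) (e1 l)
        rw [mul_inv_cancel_left] at e2
        rw [pow_one]
        exact le_cen_zl e2
      have k11 := boxCor.ol hM o bot_le hZ zl_p bot_le zl_le le_cen_zl nor_zl dl_le (nor_dl W.dg)
        (fun x hx y hy => le_cen_zl (dl_comm C R.rc W hx hy)) (u * v) (mul_mem k8 k9) k6 ⟨1, k10⟩
      have k12 : u * v ∈ centralizer (P : Set K) := cen_zl_le C R W fun y hy =>
        (commutatorElement_eq_one_iff_commute.1 (mem_bot.1 (k11 y hy))).symm.eq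
      exact k2 (by simpa using mul_mem k12 (inv_mem k7))
    · obtain ⟨x', e1, b', e2, e3⟩ := lvl_of_nd C R W (pg o.dfB) (hZD.trans h1) k1 (o.nor k4) (o.le k3) k8
      exact absurd (hmax b' ⟨ha.trans e2, x', D₁, o.dfB, e1, e3⟩) (by omega)
  have h2 : centralizer (P : Set K) ≠ ⊤ := fun e => by
    obtain ⟨b', hb'⟩ := pg hE ⟨x, hx⟩
    obtain ⟨y, k1, k2, k3⟩ := C.ex_y R (congrArg Subtype.val hb') hL
    obtain ⟨g, hg⟩ := TID.Red.conj_defect hM hB hE o.dfB
    have k4 : ∀ u, Commute u (g * x * g⁻¹) → Commute (g * y * g⁻¹) u := fun u hu => by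
      have := (k3 (g⁻¹ * u * g) (by simpa [mul_assoc] using hu.conj g⁻¹)).conj g
      simpa [mul_assoc] using this.symm
    have k5 := o.mx (zpowers (g * x * g⁻¹)) (zpowers_le.2 (hg ▸ ⟨x, hx, rfl⟩)) (g * y * g⁻¹) (e ▸ mem_top _)
      (((Nat.dvd_prime_pow R.rp (m := 1)).1 (orderOf_dvd_of_pow_eq_one (by rw [pow_one, conj_pow, k1, mul_one, mul_inv_cancel]))).imp
        fun _ e => e.2)
      (by
        rintro _ ⟨j, rfl⟩
        exact ((k4 _ (Commute.refl _)).zpow_right j).symm.eq)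
      fun u _ hu _ => k4 u (hu _ (mem_zpowers _)).symm
    refine k2 (mem_center_iff.2 fun u => ?_)
    have k6 : g * u * g⁻¹ ∈ centralizer (P : Set K) := e ▸ mem_top _
    exact (MulAut.conj g).injective (by rw [map_mul, map_mul]; exact (k6 _ k5).symm)
  have h3 : Nat.card (centralizer (P : Set K)) < Nat.card K :=
    (card_le_card_group _).lt_of_ne fun e => h2 (eq_top_of_card_eq _ e)
  have h4 := ih _ o.st.cen.res _ (by omega) (fun r' k1 k2 => (hF r' k1 k2).sub o.st.cen.emb)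
    (C.sub R.rc fun y hy => (o.rp ⟨y, hy⟩).imp fun _ e => congrArg Subtype.val e) b _ o.blk o.stb o.dfb
    (fun g => ⟨fun e => by
      have e1 : α g ∈ D' := e
      have e2 : α g = g := α.injective (o.fix _ e1)
      rwa [e2] at e1, fun e => by
      show α g ∈ D'
      rwa [o.fix g e]⟩) (by simpa using boxCor.hz o bot_le hZ)
  obtain ⟨g, hg⟩ := TID.Red.conj_defect hM hB hD o.dfB
  refine hab (ab_conj g (hg ▸ fun x hx y hy => ?_))
  exact congrArg Subtype.val (h4 ⟨x, o.le hx⟩ hx ⟨y, o.le hy⟩ hy)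

/-- **the group of fixed points** -/
theorem main_fix (hN : Nm c q l m (Fintype.card I)) (hM : IsPModular l M) {K H : Type} [Group K] [Fintype K] [Group H] [Fintype H]
    {α : MulAut K} {ρ : K →* GL I k} (hF : ∀ r : ℕ, r.Prime → m < r → Fr l r m n N K α) (C : Fo c (q ^ m) ρ) (j : H →* K)
    (hj : Function.Injective j) (hf : ∀ g, α g = g ↔ g ∈ j.range) {B : Set (IrrCharacter H)} {D : Subgroup H} (hB : IsPBlock M B)
    (hD : IsDefectGroup l M B D) (hZ : BK.HZ l B) : BK.Ab D := by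
  obtain ⟨r, hr, R⟩ := hN.pr one_pos
  obtain ⟨e, -, k1, k2, k3, k4⟩ := boxW j (hF r R.rp hr).toGl hM hj hf B D hB hD
  have h1 : ∀ x ∈ D.map j, α x = x := by
    rintro _ ⟨x, -, rfl⟩
    exact (hf _).2 ⟨x, rfl⟩
  have h2 := main hN hM _ K α ρ le_rfl hF C _ _ k1 k2 k3 (fun g => ⟨fun e => by rwa [α.injective (h1 _ e)] at e,
    fun e => by rwa [h1 g e]⟩) (by
      rintro _ ⟨ξ, hξ, rfl⟩ -
      rw [(k4 ξ hξ).1, hZ ξ hξ])
  exact fun x hx y hy => hj (by rw [map_mul, map_mul]; exact h2 _ ⟨x, hx, rfl⟩ _ ⟨y, hy, rfl⟩)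

end Cfsg.Agent.BZ.Cl
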