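import Cfsg.Agent.BZ.L.Cl.Act

/-!
# BZ, classical groups, `l` odd: the action of the normaliser on the weights (helper56)

`Dl P w` : the elements of the normaliser which map every weight to a power; `lvl_of_nd` : an `l`-element outside `Dl` raises the level.
-/

set_option autoImplicit false
set_option linter.unusedSectionVars false

namespace Cfsg.Agent.BZ.Cl

open Subgroup Matrix Cfsg.Agent.BZ.Lab

variable {k : Type} [Field k] [IsAlgClosed k] {I : Type} [Fintype I] [DecidableEq I] {K : Type} [Group K] [Fintype K]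
  {c Q l r a : ℕ} {ρ : K →* GL I k} {h : GL I k} {P : Subgroup K}

/-- the action on the characters -/
def ac (g : normalizer (P : Set K)) : (P →* kˣ) →* (P →* kˣ) where
  toFun ω := ω.comp (P.normalizerMonoidHom g⁻¹).toMonoidHom
  map_one' := rfl
  map_mul' _ _ := rfl

theorem ac_apply (g : normalizer (P : Set K)) (ω : P →* kˣ) (y : P) : ac g ω y = ω (P.normalizerMonoidHom g⁻¹ y) := rfl

theorem coe_nm (g : normalizer (P : Set K)) (y : P) : (P.normalizerMonoidHom g y : K) = g * y * g⁻¹ := rfl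

theorem ac_one (ω : P →* kˣ) : ac 1 ω = ω := MonoidHom.ext fun y => by rw [ac_apply, inv_one, map_one, MulAut.one_apply]

theorem ac_mul (g g' : normalizer (P : Set K)) (ω : P →* kˣ) : ac (g * g') ω = ac g (ac g' ω) :=
  MonoidHom.ext fun y => by rw [ac_apply, ac_apply, ac_apply, _root_.mul_inv_rev, map_mul, MulAut.mul_apply]

theorem ac_cen {g : normalizer (P : Set K)} (hg : (g : K) ∈ centralizer (P : Set K)) (ω : P →* kˣ) : ac g ω = ω :=
  MonoidHom.ext fun y => by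
    rw [ac_apply]
    refine congrArg ω (Subtype.ext ?_)
    rw [coe_nm, coe_inv, inv_inv, mul_assoc, hg y y.2, inv_mul_cancel_left]

/-- the elements which map `ω` to a power -/
def Sw (ω : P →* kˣ) : Subgroup (normalizer (P : Set K)) :=
  have hm : ∀ {g g' : normalizer (P : Set K)}, ac g ω ∈ zpowers ω → ac g' ω ∈ zpowers ω → ac (g * g') ω ∈ zpowers ω := by
    rintro g g' hg ⟨n, hn⟩
    rw [ac_mul, ← hn, map_zpow]
    exact zpow_mem hg n
  have h1 : ac 1 ω ∈ zpowers ω := by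
    rw [ac_one]
    exact mem_zpowers ω
  { carrier := {g | ac g ω ∈ zpowers ω}
    one_mem' := h1
    mul_mem' := hm
    inv_mem' := fun {g} hg => by
      have h2 : ∀ n : ℕ, ac (g ^ n) ω ∈ zpowers ω := fun n => by
        induction n with
        | zero => rwa [pow_zero]
        | succ n ih => rw [pow_succ]; exact hm ih hg
      have h3 : g⁻¹ = g ^ (orderOf g - 1) :=
        inv_eq_of_mul_eq_one_right (by rw [← pow_succ', Nat.sub_add_cancel (orderOf_pos g), pow_orderOf_eq_one])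
      rw [h3]
      exact h2 _ }

theorem mem_Sw {ω : P →* kˣ} {g : normalizer (P : Set K)} : g ∈ Sw ω ↔ ac g ω ∈ zpowers ω := Iff.rfl

theorem Sw_conj {ω : P →* kˣ} {g u : normalizer (P : Set K)} (hg : g ∈ Sw (ac u⁻¹ ω)) : u * g * u⁻¹ ∈ Sw ω := by
  obtain ⟨n, hn⟩ := hg
  refine ⟨n, ?_⟩
  rw [ac_mul, ac_mul, ← hn, map_zpow, ← ac_mul, mul_inv_cancel, ac_one]

theorem ac_comm {ω : P →* kˣ} {g g' : normalizer (P : Set K)} (hg : g ∈ Sw ω) (hg' : g' ∈ Sw ω) : ac (g * g') ω = ac (g' * g) ω := by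
  obtain ⟨n, hn⟩ := hg
  obtain ⟨n', hn'⟩ := hg'
  have key : ∀ {Γ : Type} [Group Γ] (x : Γ) (a b : ℤ), (x ^ a) ^ b = (x ^ b) ^ a := fun x a b => by
    rw [← _root_.zpow_mul, mul_comm, _root_.zpow_mul]
  rw [ac_mul, ac_mul, ← hn, ← hn', map_zpow, map_zpow, ← hn, ← hn']
  exact key ω n n'

/-- the diagonal elements -/
def Dl (P : Subgroup K) (w : I → P →* kˣ) : Subgroup K := (⨅ j, Sw (w j)).map (normalizer (P : Set K)).subtype

variable {w : I → P →* kˣ}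

theorem dl_le : Dl P w ≤ normalizer (P : Set K) := map_subtype_le _

theorem Dg.ac (hw : Dg ρ P.subtype h w) (g : normalizer (P : Set K)) {i j : I} (hg : mt ρ h g i j ≠ 0) : w i = ac g (w j) :=
  MonoidHom.ext fun y => hw.wt (show (y : K) * g = g * ((g : K)⁻¹ * y * (g : K)⁻¹⁻¹) by group) hg

theorem nor_dl (hw : Dg ρ P.subtype h w) : normalizer (P : Set K) ≤ normalizer (Dl P w : Set K) := by
  rw [← normal_subgroupOf_iff_le_normalizer dl_le, Dl, subgroupOf, comap_map_eq_self_of_injective (subtype_injective _)]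
  refine ⟨fun g hg u => mem_iInf.2 fun j => Sw_conj ?_⟩
  obtain ⟨i, hi⟩ := col_ne (ρ := ρ) (h := h) ((u⁻¹ : normalizer (P : Set K)) : K) j
  rw [← hw.ac _ hi]
  exact mem_iInf.1 hg i

theorem dl_comm (C : Fo c Q ρ) (hr : r.Coprime c) (W : Wt c Q r ρ P h w) {x y : K} (hx : x ∈ Dl P w) (hy : y ∈ Dl P w) :
    x * y * x⁻¹ * y⁻¹ ∈ centralizer (P : Set K) := by
  obtain ⟨x, hx, rfl⟩ := hx
  obtain ⟨y, hy, rfl⟩ := hy
  refine mem_cen C W hr fun i j e => (W.dg.ac (x * y * x⁻¹ * y⁻¹) e).trans ?_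
  have h1 := mem_iInf.1 hx j
  have h2 := mem_iInf.1 hy j
  rw [mul_assoc, ac_mul, ac_comm (inv_mem h1) (inv_mem h2), ← ac_mul, ← _root_.mul_inv_rev, mul_inv_cancel, ac_one]

/-! ### vectors -/

/-- weight vectors -/
def Sp (w : I → P →* kˣ) (ω : P →* kˣ) : Submodule k (I → k) where
  carrier := {v | ∀ i, w i ≠ ω → v i = 0}
  zero_mem' _ _ := rfl
  add_mem' hu hv i e := by rw [Pi.add_apply, hu i e, hv i e, add_zero]
  smul_mem' t v hv i e := by rw [Pi.smul_apply, hv i e, smul_zero]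

theorem Dg.sp (hw : Dg ρ P.subtype h w) (g : normalizer (P : Set K)) {ω : P →* kˣ} {v : I → k} (hv : v ∈ Sp w ω) :
    mt ρ h g *ᵥ v ∈ Sp w (Cl.ac g ω) := fun i hi => Finset.sum_eq_zero fun j _ => by
  by_cases e : mt ρ h g i j = 0
  · exact mul_eq_zero_of_left e _
  · exact mul_eq_zero_of_right _ (hv j fun e1 => hi (e1 ▸ hw.ac g e))

theorem sp_dg {ω : P →* kˣ} {v : I → k} (hv : v ∈ Sp w ω) (f : (P →* kˣ) → k) : diagonal (fun i => f (w i)) *ᵥ v = f ω • v :=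
  funext fun i => by
    rw [mulVec_diagonal, Pi.smul_apply, smul_eq_mul]
    by_cases e : w i = ω
    · rw [e]
    · rw [hv i e, mul_zero, mul_zero]

theorem exists_eig (hw : Dg ρ P.subtype h w) {z : K} (hz : z ∈ centralizer (P : Set K)) (j : I) :
    ∃ v ∈ Sp w (w j), ∃ μ : kˣ, v ≠ 0 ∧ mt ρ h z *ᵥ v = (μ : k) • v := by
  have h1 : ∀ v ∈ Sp w (w j), (mt ρ h z).mulVecLin v ∈ Sp w (w j) := fun v hv => by
    have := hw.sp ⟨z, centralizer_le_normalizer _ hz⟩ hv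
    rwa [ac_cen hz] at this
  have h2 : (Pi.single j 1 : I → k) ∈ Sp w (w j) := fun i hi => Pi.single_eq_of_ne (fun e => hi (congrArg w e)) _
  have : Nontrivial (Sp w (w j)) := ⟨⟨⟨_, h2⟩, 0, fun e => by simpa using congrFun (congrArg Subtype.val e) j⟩⟩
  obtain ⟨μ, hμ⟩ := Module.End.exists_eigenvalue ((mt ρ h z).mulVecLin.restrict h1)
  obtain ⟨v, hv⟩ := hμ.exists_hasEigenvector
  have h3 : v.1 ≠ 0 := fun e => hv.2 (Subtype.ext e)
  have h4 : mt ρ h z *ᵥ v.1 = μ • v.1 := congrArg Subtype.val hv.apply_eq_smul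
  exact ⟨v.1, v.2, Units.mk0 μ fun e => vec_ne z h3 (by rw [h4, e, zero_smul]), h3, h4⟩

theorem mt_change (h h' : GL I k) (g : K) (v : I → k) :
    mt ρ h' g *ᵥ (((h'⁻¹ * h : GL I k) : Matrix I I k) *ᵥ v) = ((h'⁻¹ * h : GL I k) : Matrix I I k) *ᵥ (mt ρ h g *ᵥ v) := by
  have e : ∀ h : GL I k, mt ρ h g = ((h⁻¹ * ρ g * h : GL I k) : Matrix I I k) := fun h => by
    show ((h⁻¹ * ρ g * h⁻¹⁻¹ : GL I k) : Matrix I I k) = _
    rw [inv_inv]
  rw [mulVec_mulVec, mulVec_mulVec, e, e, ← Units.val_mul, ← Units.val_mul]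
  congr 2
  group

/-- an element which moves a common eigenvector -/
theorem Fo.lvl_of_vec (C : Fo c Q ρ) (hl : l.Prime) (hQ : ¬ l ∣ Q) (hc : l.Coprime c) {x y : K} {b : ℕ} (hx : x ^ l ^ b = 1)
    {v : I → k} {ν : kˣ} {a : ℕ} (ha : 0 < a) (hν : orderOf ν = l ^ a) (h1 : mt ρ h (x ^ l) *ᵥ v = (ν : k) • v)
    (h2 : mt ρ h y *ᵥ (mt ρ h x *ᵥ v) ≠ mt ρ h x *ᵥ (mt ρ h y *ᵥ v)) : Lvl c Q ρ x (l ^ (a + 1)) := by
  have : Fact l.Prime := ⟨hl⟩
  obtain ⟨h', w, hw, -, hF⟩ := C.fn l hl hQ hc _ (zpowers x).subtype (zp_p hx) zp_comm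
  refine ⟨h', w, hw, hF, y, ?_⟩
  by_contra! e
  have hd := hw ⟨x, mem_zpowers x⟩
  rw [coe_subtype] at hd
  have hi : Function.Injective fun u : I → k => ((h'⁻¹ * h : GL I k) : Matrix I I k) *ᵥ u :=
    mulVec_injective_of_isUnit (Units.isUnit _)
  refine h2 (hi ?_)
  have h3 := congrArg (((h'⁻¹ * h : GL I k) : Matrix I I k) *ᵥ ·) h1
  simp only [← mt_change, mulVec_smul] at h3 ⊢
  generalize ((h'⁻¹ * h : GL I k) : Matrix I I k) *ᵥ v = u at h3
  rw [map_pow, hd, diagonal_pow] at h3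
  rw [hd]
  funext i
  rw [mulVec_diagonal, mulVec, mulVec, dotProduct, dotProduct, Finset.mul_sum]
  refine Finset.sum_congr rfl fun j _ => ?_
  rw [mulVec_diagonal]
  by_cases e1 : u j = 0
  · simp [e1]
  by_cases e2 : mt ρ h' y i j = 0
  · simp [e2]
  have h4 := congrFun h3 j
  rw [mulVec_diagonal, Pi.smul_apply, smul_eq_mul, Pi.pow_apply, ← Units.val_pow_eq_pow_val] at h4
  have h5 : w j ⟨x, mem_zpowers x⟩ ^ l = ν := Units.ext (mul_right_cancel₀ e1 h4)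
  have h6 : orderOf (w j) = l ^ (a + 1) := by
    rw [ord_gen]
    refine orderOf_eq_prime_pow (fun e3 => ?_) (by rw [pow_succ', pow_mul, h5, ← hν, pow_orderOf_eq_one])
    obtain ⟨a, rfl⟩ := Nat.exists_eq_add_of_le' ha
    rw [pow_succ', pow_mul, h5, ← orderOf_dvd_iff_pow_eq_one, hν, Nat.pow_dvd_pow_iff_le_right hl.one_lt] at e3
    omega
  rw [not_not.1 fun e3 => (e i j e3 e2).2 h6]
  ring

/-- **a non-diagonal element raises the level** -/
theorem lvl_of_nd (C : Fo c Q ρ) (R : Pr c Q l r a (Fintype.card I)) (W : Wt c Q r ρ P h w) {D : Subgroup K} (hD : IsPGroup l D)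
    (hZ : Zl l P ≤ D) {n : K} (hn : n ∈ D) (h1 : n ∈ normalizer (P : Set K)) (h2 : n ^ l ∈ centralizer (P : Set K))
    (h3 : n ∉ Dl P w) : ∃ x ∈ D, ∃ b, a < b ∧ Lvl c Q ρ x (l ^ b) := by
  have : Fact l.Prime := ⟨R.lp⟩
  lift n to normalizer (P : Set K) using h1
  obtain ⟨j, hj⟩ : ∃ j, n ∉ Sw (w j) := by
    by_contra! e
    exact h3 ⟨n, mem_iInf.2 e, rfl⟩
  have hj1 : w j ≠ 1 := fun e => hj (by rw [mem_Sw, e, map_one]; exact one_mem _)
  have h4 : ac (n ^ l) (w j) = w j := ac_cen h2 _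
  have h5 : ∀ s, 0 < s → s < l → ac (n ^ s) (w j) ∉ zpowers (w j) := fun s k1 k2 e => hj (by
    have e1 : n ^ l ∈ Sw (w j) := by rw [mem_Sw, h4]; exact mem_zpowers _
    have e2 := ((Nat.Prime.coprime_iff_not_dvd R.lp).2 (Nat.not_dvd_of_pos_of_lt k1 k2)).symm
    obtain ⟨x, y, e3⟩ := Nat.isCoprime_iff_coprime.2 e2
    rw [← zpow_one n, ← e3, _root_.zpow_add, mul_comm x, mul_comm y, _root_.zpow_mul, _root_.zpow_mul, zpow_natCast, zpow_natCast]
    exact mul_mem (zpow_mem (mem_Sw.2 e) x) (zpow_mem e1 y))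
  obtain ⟨v, hv, μ, hv0, hμ⟩ := exists_eig W.dg h2 j
  obtain ⟨u, hu, f, b, k1, k2, k3, k4⟩ : ∃ u ∈ D, ∃ (f : (P →* kˣ) → kˣ) (b : ℕ), a ≤ b ∧ orderOf (f (w j) * μ) = l ^ b ∧
      (mt ρ h u = diagonal fun i => (f (w i) : k)) ∧ ∀ ω, ω ∉ zpowers (w j) → f ω = 1 := by
    obtain ⟨b, hb⟩ : ∃ b, orderOf μ = l ^ b := by
      obtain ⟨e, he⟩ := hD ⟨n, hn⟩
      have e1 : ∀ s : ℕ, mt ρ h (((n : K) ^ l) ^ s) *ᵥ v = ((μ ^ s : kˣ) : k) • v := fun s => by
        induction s with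
        | zero => simp
        | succ s ih => rw [pow_succ, map_mul, ← mulVec_mulVec, hμ, mulVec_smul, ih, smul_smul, pow_succ', Units.val_mul]
      have e2 := e1 (l ^ e)
      rw [← pow_mul, mul_comm, pow_mul, show (n : K) ^ l ^ e = 1 from congrArg Subtype.val he, one_pow, map_one, one_mulVec] at e2
      have e3 : μ ^ l ^ e = 1 := Units.ext (smul_left_injective k hv0 (e2.symm.trans (one_smul k v).symm))
      exact ((Nat.dvd_prime_pow R.lp).1 (orderOf_dvd_of_pow_eq_one e3)).imp fun _ e => e.2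
    by_cases e : a ≤ b
    · exact ⟨1, one_mem _, fun _ => 1, b, e, by rw [one_mul, hb], by rw [map_one]; exact diagonal_one.symm, fun _ _ => rfl⟩
    · obtain ⟨t, ht, f, ζ, e1, e2, e3, -, e4⟩ := exists_t C R W hj1
      refine ⟨t, hZ ht, f, a, le_rfl, ?_, e2, e4⟩
      rw [e3, mul_comm, ← e1]
      refine (Commute.all μ ζ).orderOf_mul_eq_right_of_forall_prime_mul_dvd (isOfFinOrder_iff_pow_eq_one.2
        ⟨_, pow_pos R.lp.pos a, by rw [← e1, pow_orderOf_eq_one]⟩) fun p hp e5 => ?_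
      rw [hb] at e5 ⊢
      rw [(Nat.prime_dvd_prime_iff_eq hp R.lp).1 (hp.dvd_of_dvd_pow e5), e1, ← pow_succ']
      exact pow_dvd_pow l (by omega)
  have h6 : ∀ s, mt ρ h u *ᵥ (mt ρ h ((n : K) ^ s) *ᵥ v) = (f (ac (n ^ s) (w j)) : k) • (mt ρ h ((n : K) ^ s) *ᵥ v) := fun s => by
    rw [k3]
    exact sp_dg (W.dg.sp (n ^ s) hv) fun ω => (f ω : k)
  have h7 : ∀ s, s < l → mt ρ h ((u * n) ^ s) *ᵥ v = mt ρ h ((n : K) ^ s) *ᵥ v := fun s => by
    induction s with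
    | zero => exact fun _ => by rw [pow_zero, pow_zero]
    | succ s ih =>
      intro hs
      rw [pow_succ', map_mul, map_mul, ← mulVec_mulVec, ← mulVec_mulVec, ih (by omega), mulVec_mulVec _ (mt ρ h n), ← map_mul,
        ← pow_succ', h6, k4 _ (h5 _ (Nat.succ_pos s) hs), Units.val_one, one_smul]
  have h8 : mt ρ h ((u * n) ^ l) *ᵥ v = ((f (w j) * μ : kˣ) : k) • v := by
    obtain ⟨s, hs⟩ : ∃ s, l = s + 1 := ⟨l - 1, (Nat.sub_add_cancel R.lp.pos).symm⟩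
    have e1 : (u * n) ^ l = u * n * (u * n) ^ s := by rw [hs, pow_succ']
    have e2 : (n : K) * n ^ s = n ^ l := by rw [hs, pow_succ']
    rw [e1, map_mul, map_mul, ← mulVec_mulVec, ← mulVec_mulVec, h7 s (by omega), mulVec_mulVec _ (mt ρ h n), ← map_mul, e2, h6, h4, hμ,
      smul_smul, Units.val_mul]
  obtain ⟨e, he⟩ := hD ⟨u * n, mul_mem hu hn⟩
  obtain ⟨y, hy⟩ : ∃ y : P, ac n (w j) y ≠ w j y := by
    by_contra! e1
    exact hj (by rw [mem_Sw, MonoidHom.ext e1]; exact mem_zpowers _)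
  refine ⟨u * n, mul_mem hu hn, b + 1, by omega, C.lvl_of_vec (y := y) R.lp R.lQ R.lc (congrArg Subtype.val he)
    (R.a0.trans_le k1) k2 h8 fun e1 => hy (Units.ext ?_)⟩
  have e2 := h7 1 R.lp.one_lt
  rw [pow_one, pow_one] at e2
  have e3 := W.dg y
  rw [coe_subtype] at e3
  rw [e3, sp_dg hv fun ω => (ω y : k), mulVec_smul, e2, sp_dg (W.dg.sp n hv) fun ω => (ω y : k)] at e1
  exact smul_left_injective k (vec_ne _ hv0) e1

end Cfsg.Agent.BZ.Cl
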