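import Cfsg.Agent.Lib.Zsigmondy

/-!
# BZ, classical groups, `l` odd: numbers (helper56)

* `Eo Q a b` : `Q` has the same order modulo `a` and modulo `b`; `HQ Q` : the exponents `± Q ^ s`; `tr` : the transfer;
* `exists_f` : the function on a character group which is supported on the orbit of one character.
-/

set_option autoImplicit false

namespace Cfsg.Agent.BZ.Cl

variable {Q a b c t : ℕ}

/-- `Q` has the same order modulo `a` and modulo `b` -/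
def Eo (Q a b : ℕ) : Prop := ∀ s : ℕ, (a : ℤ) ∣ (Q : ℤ) ^ s - 1 ↔ (b : ℤ) ∣ (Q : ℤ) ^ s - 1

theorem Eo.symm (h : Eo Q a b) : Eo Q b a := fun s => (h s).symm

theorem Eo.trans (h : Eo Q a b) (h' : Eo Q b c) : Eo Q a c := fun s => (h s).trans (h' s)

/-- the exponents -/
def HQ (Q : ℕ) (x : ℤ) : Prop := ∃ s : ℕ, x = (Q : ℤ) ^ s ∨ x = -(Q : ℤ) ^ s

theorem HQ.one : HQ Q 1 := ⟨0, Or.inl (pow_zero _).symm⟩

theorem HQ.neg {x : ℤ} (h : HQ Q x) : HQ Q (-x) := by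
  obtain ⟨s, rfl | rfl⟩ := h
  · exact ⟨s, Or.inr rfl⟩
  · exact ⟨s, Or.inl (neg_neg _)⟩

theorem HQ.mul {x : ℤ} (h : HQ Q x) (j : ℕ) : HQ Q (x * (Q : ℤ) ^ j) := by
  obtain ⟨s, rfl | rfl⟩ := h
  · exact ⟨s + j, Or.inl (pow_add _ _ _).symm⟩
  · exact ⟨s + j, Or.inr (by rw [pow_add, neg_mul])⟩

/-- a power of an odd prime which does not divide `Q` -/
def Pp (Q t : ℕ) : Prop := ∃ s k : ℕ, s.Prime ∧ s ≠ 2 ∧ ¬ s ∣ Q ∧ 0 < k ∧ t = s ^ k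

theorem Pp.cop (h : Pp Q t) (j : ℕ) : IsCoprime (t : ℤ) ((Q : ℤ) ^ j) := by
  obtain ⟨s, k, hs, -, h2, -, rfl⟩ := h
  have := (((Nat.Prime.coprime_iff_not_dvd hs).2 h2).pow k j)
  exact_mod_cast Nat.isCoprime_iff_coprime.2 this

theorem Pp.ne_one (h : Pp Q t) : t ≠ 1 := by
  obtain ⟨s, k, hs, -, -, hk, rfl⟩ := h
  exact (Nat.one_lt_pow hk.ne' hs.one_lt).ne'

theorem sub_le (ha : Pp Q a) {s s' : ℕ} (h : s' ≤ s) :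
    (a : ℤ) ∣ (Q : ℤ) ^ s - (Q : ℤ) ^ s' ↔ (a : ℤ) ∣ (Q : ℤ) ^ (s - s') - 1 := by
  obtain ⟨d, rfl⟩ := Nat.exists_eq_add_of_le h
  rw [Nat.add_sub_cancel_left, show (Q : ℤ) ^ (s' + d) - (Q : ℤ) ^ s' = (Q : ℤ) ^ s' * ((Q : ℤ) ^ d - 1) by ring]
  exact ⟨fun e => (ha.cop s').dvd_of_dvd_mul_left e, fun e => e.mul_left _⟩

theorem sub_iff (h : Eo Q a b) (ha : Pp Q a) (hb : Pp Q b) (s s' : ℕ) :
    (a : ℤ) ∣ (Q : ℤ) ^ s - (Q : ℤ) ^ s' ↔ (b : ℤ) ∣ (Q : ℤ) ^ s - (Q : ℤ) ^ s' := by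
  rcases le_total s' s with e | e
  · rw [sub_le ha e, sub_le hb e, h]
  · rw [dvd_sub_comm, dvd_sub_comm (a := (b : ℤ)), sub_le ha e, sub_le hb e, h]

theorem add_iff (h : Pp Q t) (s s' : ℕ) : (t : ℤ) ∣ (Q : ℤ) ^ s + (Q : ℤ) ^ s' ↔
    (t : ℤ) ∣ (Q : ℤ) ^ (2 * s) - (Q : ℤ) ^ (2 * s') ∧ ¬ (t : ℤ) ∣ (Q : ℤ) ^ s - (Q : ℤ) ^ s' := by
  obtain ⟨p, k, hp, h2, hQ, hk, rfl⟩ := h
  have hp' : Prime (p : ℤ) := Nat.prime_iff_prime_int.1 hp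
  have e : (Q : ℤ) ^ (2 * s) - (Q : ℤ) ^ (2 * s') = ((Q : ℤ) ^ s + (Q : ℤ) ^ s') * ((Q : ℤ) ^ s - (Q : ℤ) ^ s') := by ring
  have nb : (p : ℤ) ∣ (Q : ℤ) ^ s + (Q : ℤ) ^ s' → (p : ℤ) ∣ (Q : ℤ) ^ s - (Q : ℤ) ^ s' → False := fun e1 e2 => by
    have e3 := dvd_add e1 e2
    rw [show (Q : ℤ) ^ s + (Q : ℤ) ^ s' + ((Q : ℤ) ^ s - (Q : ℤ) ^ s') = 2 * (Q : ℤ) ^ s by ring] at e3
    rcases hp'.dvd_or_dvd e3 with e4 | e4
    · exact h2 ((Nat.prime_dvd_prime_iff_eq hp Nat.prime_two).1 (by exact_mod_cast e4))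
    · exact hQ (by exact_mod_cast hp'.dvd_of_dvd_pow e4)
  have hd : (p : ℤ) ∣ ((p ^ k : ℕ) : ℤ) := by
    rw [Nat.cast_pow]
    exact dvd_pow_self _ hk.ne'
  rw [e]
  refine ⟨fun e1 => ⟨e1.mul_right _, fun e2 => nb (hd.trans e1) (hd.trans e2)⟩, fun ⟨e1, e2⟩ => ?_⟩
  rw [Nat.cast_pow] at e1 e2 ⊢
  by_cases e3 : (p : ℤ) ∣ (Q : ℤ) ^ s + (Q : ℤ) ^ s'
  · exact hp'.pow_dvd_of_dvd_mul_right k (nb e3) e1
  · exact absurd (hp'.pow_dvd_of_dvd_mul_left k e3 e1) e2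

theorem add_tr (h : Eo Q a b) (ha : Pp Q a) (hb : Pp Q b) (s s' : ℕ) :
    (a : ℤ) ∣ (Q : ℤ) ^ s + (Q : ℤ) ^ s' ↔ (b : ℤ) ∣ (Q : ℤ) ^ s + (Q : ℤ) ^ s' := by
  rw [add_iff ha, add_iff hb, sub_iff h ha hb, sub_iff h ha hb]

/-- **the transfer** -/
theorem tr (h : Eo Q a b) (ha : Pp Q a) (hb : Pp Q b) {x y : ℤ} (hx : HQ Q x) (hy : HQ Q y) :
    (a : ℤ) ∣ x - y ↔ (b : ℤ) ∣ x - y := by
  obtain ⟨s, rfl | rfl⟩ := hx <;> obtain ⟨s', rfl | rfl⟩ := hy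
  · exact sub_iff h ha hb s s'
  · rw [sub_neg_eq_add]
    exact add_tr h ha hb s s'
  · rw [← neg_add', dvd_neg, dvd_neg]
    exact add_tr h ha hb s s'
  · rw [neg_sub_neg]
    exact sub_iff h ha hb s' s

/-- **a function which is supported on one orbit** -/
theorem exists_f {Γ A : Type*} [CommGroup Γ] [CommGroup A] (hΓ : ∀ ω : Γ, ∃ N, 0 < N ∧ ω ^ Q ^ N = ω) (ω₀ : Γ) (ζ : A)
    (h : Eo Q (orderOf ω₀) (orderOf ζ)) (ha : Pp Q (orderOf ω₀)) (hb : Pp Q (orderOf ζ)) :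
    ∃ f : Γ → A, (∀ ω, f (ω ^ Q) = f ω ^ Q) ∧ (∀ ω, f ω⁻¹ = (f ω)⁻¹) ∧ (∀ ω, f ω ^ orderOf ζ = 1) ∧ f ω₀ = ζ ∧
      (∀ ω, ω ≠ ω₀ → f ω ≠ ζ) ∧ ∀ ω, ω ∉ Subgroup.zpowers ω₀ → f ω = 1 := by
  classical
  have key : ∀ {x y : ℤ}, HQ Q x → HQ Q y → (ω₀ ^ x = ω₀ ^ y ↔ ζ ^ x = ζ ^ y) := fun hx hy => by
    rw [← orderOf_dvd_sub_iff_zpow_eq_zpow, ← orderOf_dvd_sub_iff_zpow_eq_zpow]
    exact tr h ha hb hx hy
  let f : Γ → A := fun ω => if e : ∃ x, HQ Q x ∧ ω = ω₀ ^ x then ζ ^ e.choose else 1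
  have f1 : ∀ x, HQ Q x → f (ω₀ ^ x) = ζ ^ x := fun x hx => by
    have e : ∃ y, HQ Q y ∧ ω₀ ^ x = ω₀ ^ y := ⟨x, hx, rfl⟩
    exact (dif_pos e).trans ((key hx e.choose_spec.1).1 e.choose_spec.2).symm
  have f0 : ∀ ω, (¬ ∃ x, HQ Q x ∧ ω = ω₀ ^ x) → f ω = 1 := fun ω e => dif_neg e
  have cs : ∀ ω, (∃ x, HQ Q x ∧ ω = ω₀ ^ x) ∨ ¬ ∃ x, HQ Q x ∧ ω = ω₀ ^ x := fun ω => em _
  refine ⟨f, fun ω => ?_, fun ω => ?_, fun ω => ?_, ?_, fun ω hω => ?_, fun ω hω => f0 ω ?_⟩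
  · rcases cs ω with ⟨x, hx, rfl⟩ | e
    · have := f1 _ (hx.mul 1)
      rw [pow_one, zpow_mul, zpow_mul, zpow_natCast, zpow_natCast] at this
      rw [this, f1 x hx]
    · rw [f0 ω e, one_pow]
      refine f0 _ fun ⟨x, hx, e1⟩ => e ?_
      obtain ⟨N, hN, e2⟩ := hΓ ω
      obtain ⟨N, rfl⟩ := Nat.exists_eq_add_of_le' hN
      refine ⟨_, hx.mul N, ?_⟩
      rw [zpow_mul, ← e1, ← Nat.cast_pow, zpow_natCast, ← pow_mul, ← pow_succ', e2]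
  · rcases cs ω with ⟨x, hx, rfl⟩ | e
    · rw [← zpow_neg, f1 _ hx.neg, f1 x hx, zpow_neg]
    · rw [f0 ω e, inv_one]
      exact f0 _ fun ⟨x, hx, e1⟩ => e ⟨_, hx.neg, by rw [zpow_neg, ← e1, inv_inv]⟩
  · rcases cs ω with ⟨x, hx, rfl⟩ | e
    · rw [f1 x hx, ← zpow_natCast, ← zpow_mul, mul_comm, zpow_mul, zpow_natCast, pow_orderOf_eq_one, one_zpow]
    · rw [f0 ω e, one_pow]
  · have := f1 1 HQ.one
    rwa [zpow_one, zpow_one] at this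
  · rcases cs ω with ⟨x, hx, rfl⟩ | e
    · rw [f1 x hx]
      refine fun e => hω ?_
      have := (key hx HQ.one).2 (by rw [e, zpow_one])
      rwa [zpow_one] at this
    · rw [f0 ω e]
      exact fun e1 => hb.ne_one (by rw [← e1, orderOf_one])
  · rintro ⟨x, -, rfl⟩
    exact hω (Subgroup.zpow_mem_zpowers _ _)

/-- a small period -/
theorem eo_pow {r i s₀ : ℕ} (hr : r.Prime) (hi : 0 < i) (h0 : 0 < s₀) (h1 : s₀ < r) (h : ((r ^ i : ℕ) : ℤ) ∣ (Q : ℤ) ^ s₀ - 1) :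
    Eo Q r (r ^ i) := fun s => by
  refine ⟨fun e => ?_, fun e => (Int.natCast_dvd_natCast.2 (dvd_pow_self r hi.ne')).trans e⟩
  obtain ⟨i, rfl⟩ := Nat.exists_eq_add_of_le' hi
  have cv : ∀ j : ℕ, ((r ^ (i + 1) : ℕ) : ℤ) ∣ (Q : ℤ) ^ j - 1 ↔ orderOf (Q : ZMod (r ^ (i + 1))) ∣ j := fun j => by
    rw [orderOf_dvd_iff_pow_eq_one, ← ZMod.intCast_zmod_eq_zero_iff_dvd, Int.cast_sub, sub_eq_zero]
    simp
  have e1 := dvd_sub_pow_of_dvd_sub e i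
  rw [one_pow, ← pow_mul, ← Nat.cast_pow, cv] at e1
  rw [cv] at h ⊢
  refine Nat.Coprime.dvd_of_dvd_mul_right ((Nat.Coprime.symm ((Nat.Prime.coprime_iff_not_dvd hr).2 fun e2 => ?_)).pow_right i) e1
  exact absurd (Nat.le_of_dvd h0 (e2.trans h)) (by omega)

/-- a huge prime -/
theorem exists_r {q m : ℕ} (hq : 2 ≤ q) (hm : m.Prime) (h3 : 3 < m) (ht : Pp (q ^ m) t) :
    ∃ r : ℕ, r.Prime ∧ m < r ∧ ¬ r ∣ q ^ m ∧ Eo (q ^ m) t r := by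
  have cv : ∀ j : ℕ, (t : ℤ) ∣ ((q ^ m : ℕ) : ℤ) ^ j - 1 ↔ orderOf ((q ^ m : ℕ) : ZMod t) ∣ j := fun j => by
    rw [orderOf_dvd_iff_pow_eq_one, ← ZMod.intCast_zmod_eq_zero_iff_dvd, Int.cast_sub, sub_eq_zero]
    simp
  have h0 : 0 < orderOf ((q ^ m : ℕ) : ZMod t) := by
    have h1 : (q ^ m).Coprime t := by
      have := (ht.cop 1).symm
      rw [pow_one] at this
      exact Nat.isCoprime_iff_coprime.1 this
    have : NeZero t := ⟨by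
      obtain ⟨s, k, hs, -, -, -, rfl⟩ := ht
      exact (pow_pos hs.pos k).ne'⟩
    rw [← ZMod.coe_unitOfCoprime _ h1, orderOf_units]
    exact orderOf_pos _
  generalize orderOf ((q ^ m : ℕ) : ZMod t) = e at cv h0
  have h1 : m ≤ m * e := Nat.le_mul_of_pos_right m h0
  obtain ⟨r, hr, k1, k2, k3⟩ := Lib.Zsigmondy.exists_primitive (a := q) (n := m * e) hq (by omega) (fun h => by omega) fun h => by
    have h2 : m ∣ 6 := h.2 ▸ dvd_mul_right m e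
    have h4 := Nat.le_of_dvd (by norm_num) h2
    interval_cases m
    · exact absurd h2 (by norm_num)
    · exact absurd h2 (by norm_num)
    · exact absurd hm (by norm_num)
  refine ⟨r, hr, ?_, fun e1 => k3 (hr.dvd_of_dvd_pow e1), fun s => ?_⟩
  · have := Nat.le_of_dvd (by have := hr.two_le; omega) k2
    have := hr.two_le
    omega
  · rw [cv, ← Nat.mul_dvd_mul_iff_left hm.pos, ← k1, pow_mul, ← Int.natCast_dvd_natCast,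
      Nat.cast_sub (Nat.one_le_pow _ _ (pow_pos (by omega) m))]
    simp

end Cfsg.Agent.BZ.Cl
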